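import Mathlib
import Cfsg.Agent.Lib.Nilpotent.Fitting
import Cfsg.Agent.Lib.Nilpotent.Subnormal

/-!
# Schmidt's theorem: a finite group all of whose maximal subgroups are nilpotent is solvable
-/

namespace Cfsg.Agent.Lib.Nilpotent.Schmidt

open Subgroup Cfsg.Agent.Lib.Nilpotent.Subnormal
open scoped Pointwise

variable {G : Type*} [Group G]

theorem isCoatom_cj {M : Subgroup G} (hM : IsCoatom M) (g : G) : IsCoatom (cj g M) := by
  refine ⟨?_, fun X hX => ?_⟩
  · intro h
    apply hM.1
    have := congrArg (cj g⁻¹) h
    rwa [← cj_mul, inv_mul_cancel, cj_one, cj_eq_self_of_mem (Subgroup.mem_top _)] at this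
  · have h1 : M < cj g⁻¹ X := by
      have h2 : cj g⁻¹ (cj g M) < cj g⁻¹ X := by
        refine lt_of_le_of_ne (cj_mono _ hX.le) ?_
        intro hEq
        apply hX.ne
        have := congrArg (cj g) hEq
        simpa [← cj_mul] using this
      simpa [← cj_mul] using h2
    have h3 := hM.2 _ h1
    have := congrArg (cj g) h3
    simpa [← cj_mul, cj_eq_self_of_mem (Subgroup.mem_top _)] using this

/-- Inside a nilpotent subgroup `M`, a proper subgroup `D` is properly normalized. -/
theorem exists_mem_normalizer_of_nilpotent [Finite G] {M D : Subgroup G}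
    (hM : Group.IsNilpotent M) (hD : D < M) : ∃ x ∈ M, x ∉ D ∧ x ∈ Subgroup.normalizer (D : Set G) := by
  have hne : D.subgroupOf M ≠ ⊤ := by
    intro h
    rw [Subgroup.subgroupOf_eq_top] at h
    exact absurd h (not_le_of_gt hD)
  have hnc := Group.normalizerCondition_of_isNilpotent (D.subgroupOf M) (lt_top_iff_ne_top.mpr hne)
  obtain ⟨x, hx, hxD⟩ := SetLike.exists_of_lt hnc
  refine ⟨x, x.2, fun h => hxD (Subgroup.mem_subgroupOf.mpr h), ?_⟩
  rw [Subgroup.mem_normalizer_iff] at hx ⊢
  intro a
  constructor
  · intro ha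
    have hax : a ∈ M := hD.le ha
    have := (hx ⟨a, hax⟩).mp (Subgroup.mem_subgroupOf.mpr ha)
    simpa [Subgroup.mem_subgroupOf] using this
  · intro ha
    have hax : a ∈ M := by
      have := M.mul_mem (M.mul_mem (M.inv_mem x.2) (hD.le ha)) x.2
      simpa [mul_assoc] using this
    have := (hx ⟨a, hax⟩).mpr (by simpa [Subgroup.mem_subgroupOf] using ha)
    simpa [Subgroup.mem_subgroupOf] using this

/-- In a simple group whose maximal subgroups are nilpotent, distinct maximal subgroups meet
trivially. -/
theorem inf_eq_bot_of_isCoatom [Finite G] [IsSimpleGroup G]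
    (h : ∀ M : Subgroup G, IsCoatom M → Group.IsNilpotent M) (D : Subgroup G) :
    ∀ M K : Subgroup G, IsCoatom M → IsCoatom K → M ≠ K → M ⊓ K = D → D = ⊥ := by
  induction D using WellFoundedGT.induction with
  | ind D ih =>
    intro M K hM hK hne hD
    by_contra hDne
    have hDM : D < M := by
      refine lt_of_le_of_ne (hD ▸ inf_le_left) ?_
      intro hEq
      have hle : M ≤ K := by rw [← hEq, ← hD]; exact inf_le_right
      exact hne (hM.le_iff.mp hle |>.resolve_left hK.1).symm
    have hDK : D < K := by
      refine lt_of_le_of_ne (hD ▸ inf_le_right) ?_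
      intro hEq
      have hle : K ≤ M := by rw [← hEq, ← hD]; exact inf_le_left
      exact hne (hK.le_iff.mp hle |>.resolve_left hM.1)
    obtain ⟨x, hxM, hxD, hxN⟩ := exists_mem_normalizer_of_nilpotent (h M hM) hDM
    obtain ⟨y, hyK, hyD, hyN⟩ := exists_mem_normalizer_of_nilpotent (h K hK) hDK
    have hNtop : Subgroup.normalizer (D : Set G) ≠ ⊤ := by
      intro hN
      have hDn : D.Normal := Subgroup.normalizer_eq_top_iff.mp hN
      rcases hDn.eq_bot_or_eq_top with h1 | h1
      · exact hDne h1
      · rw [h1] at hDM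
        exact absurd hDM (not_lt_of_ge le_top)
    obtain ⟨L, hL, hNL⟩ : ∃ L : Subgroup G, IsCoatom L ∧ Subgroup.normalizer (D : Set G) ≤ L := by
      rcases eq_top_or_exists_le_coatom (Subgroup.normalizer (D : Set G)) with h1 | h1
      · exact absurd h1 hNtop
      · exact h1
    have hDL : D ≤ L := Subgroup.le_normalizer.trans hNL
    -- `L = M`
    have hLM : L = M := by
      by_contra hLM
      have hlt : D < L ⊓ M := by
        refine lt_of_le_of_ne (le_inf hDL hDM.le) ?_
        intro hEq
        have : x ∈ L ⊓ M := ⟨hNL hxN, hxM⟩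
        rw [← hEq] at this
        exact hxD this
      have := ih _ hlt L M hL hM hLM rfl
      rw [this] at hlt
      exact absurd hlt not_lt_bot
    have hLK : L = K := by
      by_contra hLK
      have hlt : D < L ⊓ K := by
        refine lt_of_le_of_ne (le_inf hDL hDK.le) ?_
        intro hEq
        have : y ∈ L ⊓ K := ⟨hNL hyN, hyK⟩
        rw [← hEq] at this
        exact hyD this
      have := ih _ hlt L K hL hK hLK rfl
      rw [this] at hlt
      exact absurd hlt not_lt_bot
    exact hne (hLM.symm.trans hLK)

/-- The injection `(G/M) × M^# → G`, `(gM, m) ↦ g m g⁻¹`, using coset representatives. -/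
noncomputable def iota (M : Subgroup G) (p : (G ⧸ M) × {m : M // m ≠ 1}) : G :=
  (Quotient.out p.1) * (p.2.1 : G) * (Quotient.out p.1)⁻¹

theorem iota_mem_cj (M : Subgroup G) (p : (G ⧸ M) × {m : M // m ≠ 1}) :
    iota M p ∈ cj (Quotient.out p.1) M :=
  conj_mem_cj p.2.1.2

theorem iota_ne_one (M : Subgroup G) (p : (G ⧸ M) × {m : M // m ≠ 1}) : iota M p ≠ 1 := by
  intro h
  apply p.2.2
  have h1 : ((p.2.1 : M) : G) = 1 := by
    have := h
    simp only [iota] at this
    have h2 := congrArg (fun z => (Quotient.out p.1)⁻¹ * z * Quotient.out p.1) this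
    simpa [mul_assoc] using h2
  exact Subtype.ext h1

theorem iota_injective {M : Subgroup G} (hn : Subgroup.normalizer (M : Set G) = M)
    (hTI : ∀ g h : G, cj g M ⊓ cj h M ≠ ⊥ → cj g M = cj h M) :
    Function.Injective (iota M) := by
  rintro ⟨q, m⟩ ⟨q', m'⟩ heq
  have hne : iota M (q, m) ≠ 1 := iota_ne_one M _
  have hmem1 := iota_mem_cj M (q, m)
  have hmem2 := iota_mem_cj M (q', m')
  rw [← heq] at hmem2
  have hinf : cj (Quotient.out q) M ⊓ cj (Quotient.out q') M ≠ ⊥ := by
    intro h
    have : iota M (q, m) ∈ cj (Quotient.out q) M ⊓ cj (Quotient.out q') M := ⟨hmem1, hmem2⟩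
    rw [h, Subgroup.mem_bot] at this
    exact hne this
  have hcj := hTI _ _ hinf
  have hqq' : q = q' := by
    have hmemN : (Quotient.out q)⁻¹ * Quotient.out q' ∈ M := by
      apply hn.le
      apply mem_normalizer_of_cj_eq
      rw [cj_mul, ← hcj, ← cj_mul, inv_mul_cancel, cj_one]
    have := QuotientGroup.eq.mpr hmemN
    simpa using this
  subst hqq'
  congr 1
  have : (m : G) = m' := by
    have h2 : Quotient.out q * (m.1 : G) * (Quotient.out q)⁻¹ =
        Quotient.out q * (m'.1 : G) * (Quotient.out q)⁻¹ := heq
    simpa using h2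
  exact Subtype.ext (Subtype.ext this)

theorem card_compl_add_one (M : Subgroup G) [Finite M] : Nat.card {m : M // m ≠ 1} + 1 = Nat.card M := by
  classical
  have e := Equiv.optionSubtypeNe (1 : M)
  rw [← Nat.card_congr e, Finite.card_option]

/-- A simple group whose maximal subgroups are nilpotent is commutative. -/
theorem isMulCommutative_of_simple_of_nilpotent_maximal [Finite G] [IsSimpleGroup G]
    (h : ∀ M : Subgroup G, IsCoatom M → Group.IsNilpotent M) : IsMulCommutative G := by
  by_contra hnc
  classical
  -- coatoms meet trivially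
  have hTI : ∀ A B : Subgroup G, IsCoatom A → IsCoatom B → A ⊓ B ≠ ⊥ → A = B := by
    intro A B hA hB hne
    by_contra hAB
    exact hne (inf_eq_bot_of_isCoatom h _ A B hA hB hAB rfl)
  -- subgroups generated by one element are proper
  have hzp : ∀ x : G, Subgroup.zpowers x ≠ ⊤ := by
    intro x hx
    apply hnc
    have hcyc : IsCyclic G := ⟨x, fun y => by
      have : y ∈ Subgroup.zpowers x := by rw [hx]; exact Subgroup.mem_top y
      exact this⟩
    exact IsCyclic.isMulCommutative
  have hcoatom_ge : ∀ X : Subgroup G, X ≠ ⊤ → ∃ L : Subgroup G, IsCoatom L ∧ X ≤ L := by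
    intro X hX
    rcases eq_top_or_exists_le_coatom X with h1 | h1
    · exact absurd h1 hX
    · exact h1
  -- facts on a coatom
  have hfacts : ∀ M : Subgroup G, IsCoatom M →
      Subgroup.normalizer (M : Set G) = M ∧ 2 ≤ Nat.card M ∧
        Function.Injective (iota M) := by
    intro M hM
    have hMbot : M ≠ ⊥ := by
      intro hb
      obtain ⟨x, hx⟩ := exists_ne (1 : G)
      have hz := hzp x
      have : Subgroup.zpowers x = ⊥ := by
        by_contra hne
        have h1 : ⊥ < Subgroup.zpowers x := bot_lt_iff_ne_bot.mpr hne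
        rw [← hb] at h1
        exact hz (hM.2 _ h1)
      rw [Subgroup.zpowers_eq_bot] at this
      exact hx this
    have hn : Subgroup.normalizer (M : Set G) = M := by
      by_contra hne
      have hlt : M < Subgroup.normalizer (M : Set G) :=
        lt_of_le_of_ne Subgroup.le_normalizer (Ne.symm hne)
      have htop := hM.2 _ hlt
      have hnorm : M.Normal := Subgroup.normalizer_eq_top_iff.mp htop
      rcases hnorm.eq_bot_or_eq_top with h1 | h1
      · exact hMbot h1
      · exact hM.1 h1
    refine ⟨hn, ?_, iota_injective hn ?_⟩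
    · have : 1 < Nat.card M := by
        rw [Subgroup.one_lt_card_iff_ne_bot]
        exact hMbot
      omega
    · intro g h' hne
      exact hTI _ _ (isCoatom_cj hM g) (isCoatom_cj hM h') hne
  -- a coatom
  obtain ⟨M, hM, -⟩ := hcoatom_ge ⊥ (by
    intro h
    exact bot_ne_top h)
  obtain ⟨hnM, h2M, hinjM⟩ := hfacts M hM
  have hcardM : M.index * Nat.card M = Nat.card G := by
    rw [mul_comm]; exact Subgroup.card_mul_index M
  -- the image of `iota M` leaves out some `x ≠ 1`
  have hindexM : 2 ≤ M.index := by
    have h1 : M.index ≠ 1 := by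
      rw [Ne, Subgroup.index_eq_one]
      exact hM.1
    have h0 : M.index ≠ 0 := Subgroup.index_ne_zero_of_finite
    omega
  have hcardDom : Nat.card ((G ⧸ M) × {m : M // m ≠ 1}) = M.index * Nat.card {m : M // m ≠ 1} := by
    rw [Nat.card_prod]
    rfl
  have hcM := card_compl_add_one M
  have hex : ∃ x : G, x ≠ 1 ∧ x ∉ Set.range (iota M) := by
    by_contra hall
    push Not at hall
    -- then `Option dom` surjects onto `G`
    have hsurj : Function.Surjective (fun o : Option ((G ⧸ M) × {m : M // m ≠ 1}) =>
        o.elim (1 : G) (iota M)) := by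
      intro x
      by_cases hx : x = 1
      · exact ⟨none, by simpa using hx.symm⟩
      · obtain ⟨p, hp⟩ := hall x hx
        exact ⟨some p, by simpa using hp⟩
    have hle := Nat.card_le_card_of_surjective _ hsurj
    rw [Finite.card_option, hcardDom] at hle
    have : M.index * Nat.card M = M.index * Nat.card {m : M // m ≠ 1} + M.index := by
      rw [← hcM]; ring
    nlinarith
  obtain ⟨x, hx1, hxnot⟩ := hex
  obtain ⟨K, hK, hxK⟩ := hcoatom_ge (Subgroup.zpowers x) (hzp x)
  have hxKmem : x ∈ K := hxK (Subgroup.mem_zpowers x)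
  obtain ⟨hnK, h2K, hinjK⟩ := hfacts K hK
  -- `K` is not conjugate to `M`
  have hnotconj : ∀ g h' : G, cj g M ≠ cj h' K := by
    intro g h' hEq
    have hK' : K = cj (h'⁻¹ * g) M := by
      rw [cj_mul, hEq, ← cj_mul, inv_mul_cancel, cj_one]
    rw [hK'] at hxKmem
    apply hxnot
    -- write `x = u m u⁻¹` with `u` a coset representative
    set w := h'⁻¹ * g with hw
    rw [mem_cj] at hxKmem
    set m₀ : M := ⟨w⁻¹ * x * w, hxKmem⟩ with hm₀
    have hq : ∃ s ∈ M, Quotient.out (QuotientGroup.mk w : G ⧸ M) = w * s := by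
      have h1 : (QuotientGroup.mk (Quotient.out (QuotientGroup.mk w : G ⧸ M)) : G ⧸ M) =
        QuotientGroup.mk w := Quotient.out_eq' _
      have h2 := QuotientGroup.eq.mp h1.symm
      exact ⟨_, h2, by group⟩
    obtain ⟨s, hs, hsEq⟩ := hq
    have hmne : (⟨s⁻¹ * (w⁻¹ * x * w) * s, by
        exact M.mul_mem (M.mul_mem (M.inv_mem hs) hxKmem) hs⟩ : M) ≠ 1 := by
      intro h0
      have h1 := congrArg Subtype.val h0
      simp only [OneMemClass.coe_one] at h1
      apply hx1
      have h2 : w * s * (s⁻¹ * (w⁻¹ * x * w) * s) * (w * s)⁻¹ = x := by group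
      rw [← h2, h1]
      group
    refine ⟨(QuotientGroup.mk w, ⟨_, hmne⟩), ?_⟩
    simp only [iota]
    rw [hsEq]
    group
  -- count
  have hcardDomK : Nat.card ((G ⧸ K) × {m : K // m ≠ 1}) = K.index * Nat.card {m : K // m ≠ 1} := by
    rw [Nat.card_prod]
    rfl
  have hcK := card_compl_add_one K
  have hcardK : K.index * Nat.card K = Nat.card G := by
    rw [mul_comm]; exact Subgroup.card_mul_index K
  -- the combined injection
  let f : Option (((G ⧸ M) × {m : M // m ≠ 1}) ⊕ ((G ⧸ K) × {m : K // m ≠ 1})) → G := fun o =>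
    o.elim (1 : G) (Sum.elim (iota M) (iota K))
  have hf : Function.Injective f := by
    have hdisj : ∀ (p : (G ⧸ M) × {m : M // m ≠ 1}) (r : (G ⧸ K) × {m : K // m ≠ 1}),
        iota M p ≠ iota K r := by
      intro p r hEq
      have h1 := iota_mem_cj M p
      have h2 := iota_mem_cj K r
      rw [← hEq] at h2
      apply hnotconj (Quotient.out p.1) (Quotient.out r.1)
      apply hTI _ _ (isCoatom_cj hM _) (isCoatom_cj hK _)
      intro hb
      have : iota M p ∈ cj (Quotient.out p.1) M ⊓ cj (Quotient.out r.1) K := ⟨h1, h2⟩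
      rw [hb, Subgroup.mem_bot] at this
      exact iota_ne_one M p this
    rintro (_ | (p | p)) (_ | (r | r)) hEq
    · rfl
    · exact absurd hEq.symm (iota_ne_one M r)
    · exact absurd hEq.symm (iota_ne_one K r)
    · exact absurd hEq (iota_ne_one M p)
    · exact congrArg (some ∘ Sum.inl) (hinjM hEq)
    · exact absurd hEq (hdisj p r)
    · exact absurd hEq (iota_ne_one K p)
    · exact absurd hEq.symm (hdisj r p)
    · exact congrArg (some ∘ Sum.inr) (hinjK hEq)
  have hle := Nat.card_le_card_of_injective f hf
  rw [Finite.card_option, Nat.card_sum, hcardDom, hcardDomK] at hle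
  -- arithmetic
  set a := M.index
  set b := K.index
  set m' := Nat.card {m : M // m ≠ 1}
  set k' := Nat.card {m : K // m ≠ 1}
  have hm1 : 1 ≤ m' := by omega
  have hk1 : 1 ≤ k' := by omega
  have e1 : a * m' + a = Nat.card G := by
    rw [← hcardM, ← hcM]; ring
  have e2 : b * k' + b = Nat.card G := by
    rw [← hcardK, ← hcK]; ring
  have e3 : a ≤ a * m' := Nat.le_mul_of_pos_right a (by omega)
  have e4 : b ≤ b * k' := Nat.le_mul_of_pos_right b (by omega)
  omega

/-- **Schmidt's theorem**: a finite group all of whose maximal subgroups are nilpotent is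
solvable. -/
theorem isSolvable_of_forall_isCoatom_isNilpotent [Finite G]
    (h : ∀ M : Subgroup G, IsCoatom M → Group.IsNilpotent M) : Group.IsSolvable G := by
  induction hn : Nat.card G using Nat.strong_induction_on generalizing G with
  | _ n ih =>
    by_cases hnontriv : Nontrivial G
    swap
    · rw [not_nontrivial_iff_subsingleton] at hnontriv
      exact inferInstance
    by_cases hsimple : IsSimpleGroup G
    · have := isMulCommutative_of_simple_of_nilpotent_maximal h
      exact Group.isSolvable_of_comm (fun a b => this.is_comm.comm a b)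
    · -- a proper nontrivial normal subgroup
      obtain ⟨N, hN, hNbot, hNtop⟩ : ∃ N : Subgroup G, N.Normal ∧ N ≠ ⊥ ∧ N ≠ ⊤ := by
        by_contra hno
        push Not at hno
        apply hsimple
        refine ⟨fun N hN => ?_⟩
        by_cases hb : N = ⊥
        · exact Or.inl hb
        · exact Or.inr (hno N hN hb)
      -- `N` is nilpotent
      have hNnil : Group.IsNilpotent N := by
        rcases eq_top_or_exists_le_coatom N with h1 | ⟨M, hM, hNM⟩
        · exact absurd h1 hNtop
        · exact Cfsg.Agent.Lib.Nilpotent.Fitting.isNilpotent_of_le hNM (h M hM)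
      have hNsolv : Group.IsSolvable N := inferInstance
      -- `G/N` satisfies the hypotheses
      have hquot : Group.IsSolvable (G ⧸ N) := by
        have hlt : Nat.card (G ⧸ N) < n := by
          rw [← hn, ← Subgroup.index_eq_card, ← Subgroup.card_mul_index N]
          have h1 : 1 < Nat.card N := (Subgroup.one_lt_card_iff_ne_bot N).mpr hNbot
          have h2 : 0 < N.index := Nat.pos_of_ne_zero Subgroup.index_ne_zero_of_finite
          nlinarith
        refine ih _ hlt (G := G ⧸ N) ?_ rfl
        intro K hK
        have hK' : IsCoatom (K.comap (QuotientGroup.mk' N)) :=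
          isCoatom_comap_of_surjective (QuotientGroup.mk'_surjective N) hK
        have hnil := h _ hK'
        have hmap : (K.comap (QuotientGroup.mk' N)).map (QuotientGroup.mk' N) = K :=
          Subgroup.map_comap_eq_self_of_surjective (QuotientGroup.mk'_surjective N) K
        rw [← hmap]
        exact Group.nilpotent_of_surjective _ (MonoidHom.subgroupMap_surjective _ _)
      exact Group.isSolvable_of_ker_le_range N.subtype (QuotientGroup.mk' N) (by
        rw [Subgroup.range_subtype, QuotientGroup.ker_mk'])

end Cfsg.Agent.Lib.Nilpotent.Schmidt
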