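import Mathlib
import Cfsg.Agent.Lib.Nilpotent.Fitting
import Cfsg.Agent.Lib.Nilpotent.Elements
import Cfsg.Agent.Lib.Nilpotent.Schmidt
import Cfsg.Agent.Lib.Transfer.Basic
import Cfsg.Prelude.Def_SolvableStructure
import Cfsg.Prelude.Def_Transfer

/-!
# Structure of minimal non-nilpotent groups and minimal non-abelian groups
-/

namespace Cfsg.Agent.Lib.Nilpotent.MinNonNilpotent

open Subgroup
open Cfsg.Agent.Lib.Nilpotent
open scoped commutatorElement

variable {G : Type*} [Group G]

/-- A coatom containing the commutator subgroup is normal of prime index. -/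
theorem exists_normal_prime_index [Finite G] [Group.IsSolvable G] [Nontrivial G] :
    ∃ M : Subgroup G, M.Normal ∧ M ≠ ⊤ ∧ M.index.Prime := by
  have hlt : commutator G < ⊤ := Group.IsSolvable.commutator_lt_top_of_nontrivial G
  obtain ⟨M, hM, hcM⟩ : ∃ M : Subgroup G, IsCoatom M ∧ commutator G ≤ M := by
    rcases eq_top_or_exists_le_coatom (commutator G) with h1 | h1
    · exact absurd h1 hlt.ne
    · exact h1
  have hMn : M.Normal := by
    refine ⟨fun m hm g => ?_⟩
    have h1 : g * m * g⁻¹ * m⁻¹ ∈ commutator G := by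
      rw [commutator_def]
      exact Subgroup.commutator_mem_commutator (Subgroup.mem_top g) (Subgroup.mem_top m)
    have := M.mul_mem (hcM h1) hm
    simpa using this
  refine ⟨M, hMn, hM.1, ?_⟩
  have hcomm : IsMulCommutative (G ⧸ M) := by
    refine ⟨⟨fun a b => ?_⟩⟩
    induction a using QuotientGroup.induction_on with | _ a =>
    induction b using QuotientGroup.induction_on with | _ b =>
    rw [← QuotientGroup.mk_mul, ← QuotientGroup.mk_mul, QuotientGroup.eq]
    have h1 : (a * b)⁻¹ * (b * a) = ⁅b⁻¹, a⁻¹⁆ := by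
      simp [commutatorElement_def, mul_assoc]
    rw [h1]
    exact hcM (Subgroup.commutator_mem_commutator (Subgroup.mem_top _) (Subgroup.mem_top _))
  have hnt : Nontrivial (G ⧸ M) := by
    rw [QuotientGroup.nontrivial_iff]
    exact hM.1
  have hsimple : IsSimpleGroup (G ⧸ M) := by
    refine ⟨fun N _ => ?_⟩
    have hle : M ≤ N.comap (QuotientGroup.mk' M) := by
      intro x hx
      rw [Subgroup.mem_comap]
      have : (QuotientGroup.mk' M) x = 1 := by
        rw [QuotientGroup.mk'_apply, QuotientGroup.eq_one_iff]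
        exact hx
      rw [this]
      exact Subgroup.one_mem _
    rcases hM.le_iff.mp hle with h1 | h1
    · right
      have := Subgroup.map_comap_eq_self_of_surjective (QuotientGroup.mk'_surjective M) N
      rw [← this, h1]
      rw [← MonoidHom.range_eq_map]
      exact MonoidHom.range_eq_top.mpr (QuotientGroup.mk'_surjective M)
    · left
      rw [eq_bot_iff]
      intro x hx
      induction x using QuotientGroup.induction_on with | _ x =>
      have hx' : x ∈ N.comap (QuotientGroup.mk' M) := hx
      rw [h1] at hx'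
      rw [Subgroup.mem_bot, QuotientGroup.eq_one_iff]
      exact hx'
  have := (Group.is_simple_iff_prime_card (α := G ⧸ M)).mp hsimple
  rwa [← Subgroup.index_eq_card] at this

/-- In a group with a normal nilpotent subgroup `M` of prime index `p`, for `q ≠ p` the group has a
normal Sylow `q`-subgroup. -/
theorem exists_normal_sylow_of_prime_index [Finite G] {M : Subgroup G} [hM : M.Normal]
    (hnil : Group.IsNilpotent M) {p q : ℕ} (hp : M.index = p) [hq : Fact q.Prime] (hqp : ¬ q ∣ p) :
    ∃ Q : Sylow q G, (Q : Subgroup G).Normal := by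
  let Q₀ : Sylow q M := default
  have hn : (Q₀ : Subgroup M).Normal := inferInstance
  have hc : (Q₀ : Subgroup M).Characteristic := Sylow.characteristic_of_normal Q₀ hn
  have hQn : ((Q₀ : Subgroup M).map M.subtype).Normal :=
    Fitting.map_subtype_normal_of_characteristic (Q₀ : Subgroup M)
  have hQp : IsPGroup q ((Q₀ : Subgroup M).map M.subtype) := Q₀.isPGroup'.map M.subtype
  have hle : (Q₀ : Subgroup M).map M.subtype ≤ M := by
    rintro _ ⟨x, _, rfl⟩
    exact x.2
  have hidx : ((Q₀ : Subgroup M).map M.subtype).index = (Q₀ : Subgroup M).index * p := by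
    rw [← Subgroup.relIndex_mul_index hle, hp]
    congr 1
    rw [Subgroup.relIndex, Subgroup.subgroupOf, Subgroup.comap_map_eq_self_of_injective]
    exact M.subtype_injective
  have hnd : ¬ q ∣ ((Q₀ : Subgroup M).map M.subtype).index := by
    rw [hidx, Nat.Prime.dvd_mul hq.out]
    push Not
    exact ⟨Q₀.not_dvd_index, hqp⟩
  exact ⟨hQp.toSylow hnd, hQn⟩

theorem isNilpotent_of_forall_sylow_normal [Finite G]
    (h : ∀ (p : ℕ) (_ : Fact p.Prime) (P : Sylow p G), (P : Subgroup G).Normal) :
    Group.IsNilpotent G :=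
  (Group.isNilpotent_of_finite_tfae.out 0 3).mpr h

/-- The main structural result on minimal non-nilpotent groups. -/
theorem exists_structure [Finite G] (hnot : ¬ Group.IsNilpotent G)
    (hprop : ∀ H : Subgroup G, H ≠ ⊤ → Group.IsNilpotent H) :
    ∃ p q : ℕ, p.Prime ∧ q.Prime ∧ p ≠ q ∧ ∃ (P : Sylow p G) (Q : Sylow q G),
      IsCyclic P ∧ (Q : Subgroup G).Normal ∧ (P : Subgroup G) ⊔ Q = ⊤ := by
  have hsolv : Group.IsSolvable G :=
    Schmidt.isSolvable_of_forall_isCoatom_isNilpotent (fun M hM => hprop M hM.1)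
  have hnt : Nontrivial G := by
    by_contra h
    rw [not_nontrivial_iff_subsingleton] at h
    exact hnot inferInstance
  obtain ⟨M, hMn, hMtop, hMp⟩ := exists_normal_prime_index (G := G)
  have hMnil := hprop M hMtop
  set p := M.index with hpdef
  have : Fact p.Prime := ⟨hMp⟩
  let P : Sylow p G := default
  -- Sylow subgroups for other primes are normal
  have hother : ∀ (q : ℕ) [Fact q.Prime], q ≠ p → ∃ Q : Sylow q G, (Q : Subgroup G).Normal := by
    intro q _ hqp
    refine exists_normal_sylow_of_prime_index hMnil rfl ?_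
    intro hd
    exact hqp ((Nat.prime_dvd_prime_iff_eq Fact.out hMp).mp hd)
  -- `P` is not normal
  have hPnot : ¬ (P : Subgroup G).Normal := by
    intro hPn
    apply hnot
    apply isNilpotent_of_forall_sylow_normal
    intro r _ R
    by_cases hrp : r = p
    · subst hrp
      have := Sylow.unique_of_normal P hPn
      rw [Subsingleton.elim R P]
      exact hPn
    · obtain ⟨Q, hQ⟩ := hother r hrp
      have := Sylow.unique_of_normal Q hQ
      rw [Subsingleton.elim R Q]
      exact hQ
  -- a prime dividing the index of the normalizer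
  have hidx : (Subgroup.normalizer ((P : Subgroup G) : Set G)).index ≠ 1 := by
    intro h
    rw [Subgroup.index_eq_one] at h
    exact hPnot (Subgroup.normalizer_eq_top_iff.mp h)
  obtain ⟨q, hq, hqd⟩ := Nat.exists_prime_and_dvd hidx
  have : Fact q.Prime := ⟨hq⟩
  have hqp : q ≠ p := by
    rintro rfl
    have h1 : (Subgroup.normalizer ((P : Subgroup G) : Set G)).index ∣ (P : Subgroup G).index :=
      Subgroup.index_dvd_of_le Subgroup.le_normalizer
    exact P.not_dvd_index (hqd.trans h1)
  obtain ⟨Q, hQn⟩ := hother q hqp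
  -- `Q` does not centralize `P`
  have hnc : ∃ x ∈ (P : Subgroup G), ∃ y ∈ (Q : Subgroup G), ¬ Commute x y := by
    by_contra hall
    push Not at hall
    have hle : (Q : Subgroup G) ≤ Subgroup.normalizer ((P : Subgroup G) : Set G) := by
      intro y hy
      rw [Subgroup.mem_normalizer_iff]
      intro a
      have h1 : ∀ a ∈ (P : Subgroup G), y * a * y⁻¹ = a := by
        intro a ha
        have := (hall a ha y hy).eq
        rw [← this]
        simp
      constructor
      · intro ha
        rwa [h1 a ha]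
      · intro ha
        have hb := (hall _ ha y hy).eq
        have h4 : y * a = y * (y * a * y⁻¹) := by simpa [mul_assoc] using hb
        have h2 : a = y * a * y⁻¹ := mul_left_cancel h4
        rwa [h2]
    have h1 : (Subgroup.normalizer ((P : Subgroup G) : Set G)).index ∣ (Q : Subgroup G).index :=
      Subgroup.index_dvd_of_le hle
    exact Q.not_dvd_index (hqd.trans h1)
  obtain ⟨x, hxP, y, hyQ, hxy⟩ := hnc
  -- orders of `x` and `y` are coprime
  have hxo : ∃ a, orderOf x = p ^ a := by
    obtain ⟨a, ha⟩ := (IsPGroup.iff_orderOf.mp P.isPGroup') ⟨x, hxP⟩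
    exact ⟨a, by rwa [Subgroup.orderOf_mk] at ha⟩
  have hyo : ∃ a, orderOf y = q ^ a := by
    obtain ⟨a, ha⟩ := (IsPGroup.iff_orderOf.mp Q.isPGroup') ⟨y, hyQ⟩
    exact ⟨a, by rwa [Subgroup.orderOf_mk] at ha⟩
  -- `Q⟨x⟩` is the whole group
  have htop : Subgroup.zpowers x ⊔ (Q : Subgroup G) = ⊤ := by
    by_contra hne
    have hnil := hprop _ hne
    have hx' : x ∈ Subgroup.zpowers x ⊔ (Q : Subgroup G) :=
      (le_sup_left : Subgroup.zpowers x ≤ _) (Subgroup.mem_zpowers x)
    have hy' : y ∈ Subgroup.zpowers x ⊔ (Q : Subgroup G) :=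
      (le_sup_right : (Q : Subgroup G) ≤ _) hyQ
    have hcop : (orderOf (⟨x, hx'⟩ : ↥(Subgroup.zpowers x ⊔ (Q : Subgroup G)))).Coprime
        (orderOf (⟨y, hy'⟩ : ↥(Subgroup.zpowers x ⊔ (Q : Subgroup G)))) := by
      rw [Subgroup.orderOf_mk, Subgroup.orderOf_mk]
      obtain ⟨a, ha⟩ := hxo
      obtain ⟨b, hb⟩ := hyo
      rw [ha, hb]
      exact Nat.Coprime.pow _ _ ((Nat.coprime_primes hMp hq).mpr (Ne.symm hqp))
    have := Elements.commute_of_coprime_orderOf hcop
    apply hxy
    have h2 := congrArg Subtype.val this.eq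
    exact h2
  -- the index of `Q` divides the order of `x`
  have hQidx : (Q : Subgroup G).index ∣ orderOf x := by
    have h1 := Subgroup.relIndex_sup_right (Subgroup.zpowers x) (Q : Subgroup G)
    rw [htop, Subgroup.relIndex_top_right] at h1
    rw [h1, ← Nat.card_zpowers]
    exact Subgroup.relIndex_dvd_card _ _
  have hcoprimePQ : (Nat.card P).Coprime (Nat.card Q) :=
    IsPGroup.coprime_card_of_ne p q (Ne.symm hqp) _ _ P.isPGroup' Q.isPGroup'
  have hPdvd : Nat.card P ∣ (Q : Subgroup G).index := by
    have h1 : Nat.card P ∣ Nat.card Q * (Q : Subgroup G).index := by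
      rw [Subgroup.card_mul_index]
      exact Subgroup.card_subgroup_dvd_card _
    exact hcoprimePQ.dvd_of_dvd_mul_left h1
  have hxP' : orderOf x ∣ Nat.card P := by
    have := orderOf_dvd_natCard (⟨x, hxP⟩ : (P : Subgroup G))
    rwa [Subgroup.orderOf_mk] at this
  have hordEq : orderOf x = Nat.card P :=
    Nat.dvd_antisymm hxP' (hPdvd.trans hQidx)
  have hzpP : Subgroup.zpowers x = (P : Subgroup G) := by
    apply Subgroup.eq_of_le_of_card_ge
    · rw [Subgroup.zpowers_le]
      exact hxP
    · rw [Nat.card_zpowers, hordEq]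
  refine ⟨p, q, hMp, hq, Ne.symm hqp, P, Q, ?_, hQn, ?_⟩
  · show IsCyclic (P : Subgroup G)
    rw [← hzpP]
    infer_instance
  · rw [← hzpP]
    exact htop

end Cfsg.Agent.Lib.Nilpotent.MinNonNilpotent
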