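import Mathlib
import Cfsg.Agent.Lib.Nilpotent.Fitting
import Cfsg.Agent.Lib.Nilpotent.Subnormal
import Cfsg.Agent.Lib.Nilpotent.SubnormalRadical
import Cfsg.Agent.Lib.Nilpotent.Elements
import Cfsg.Agent.S3937
import Cfsg.Agent.Lib.Basic.PCore

/-!
# Sylow subgroups and joins of subnormal subgroups

`S ∩ ⟨A, B⟩ = ⟨S ∩ A, S ∩ B⟩` for `A`, `B` subnormal.
-/

set_option autoImplicit false

namespace Cfsg.Agent.Lib.Nilpotent.SylowJoin

open Cfsg.Agent.Lib.Nilpotent.Subnormal Cfsg.Agent.Lib.Nilpotent.SubnormalRadical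
open Cfsg.Agent.Lib.Nilpotent.Fitting

open scoped commutatorElement

universe u

section aux

variable {G : Type*} [Group G] [Finite G]

/-- For `N` normal, `[H N : H] = [N : H ∩ N]`. -/
theorem relIndex_sup_eq (H N : Subgroup G) [hN : N.Normal] :
    H.relIndex (H ⊔ N) = H.relIndex N := by
  have hc := Subgroup.relIndex_sup_right H N
  have e1 : Nat.card (H ⊔ N : Subgroup G) = H.relIndex (H ⊔ N) * Nat.card H := by
    rw [mul_comm]
    have := Subgroup.relIndex_mul_relIndex (⊥ : Subgroup G) H (H ⊔ N) bot_le le_sup_left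
    simpa [Subgroup.relIndex_bot_left] using this.symm
  have e2 : Nat.card (H ⊔ N : Subgroup G) = N.relIndex (H ⊔ N) * Nat.card N := by
    rw [mul_comm]
    have := Subgroup.relIndex_mul_relIndex (⊥ : Subgroup G) N (H ⊔ N) bot_le le_sup_right
    simpa [Subgroup.relIndex_bot_left] using this.symm
  have e3 : Nat.card H = N.relIndex H * Nat.card (H ⊓ N : Subgroup G) := by
    have hc' : N.relIndex H = (H ⊓ N).relIndex H := by
      rw [inf_comm, Subgroup.inf_relIndex_right]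
    rw [mul_comm, hc']
    have := Subgroup.relIndex_mul_relIndex (⊥ : Subgroup G) (H ⊓ N) H bot_le inf_le_left
    simpa [Subgroup.relIndex_bot_left] using this.symm
  have e4 : Nat.card N = H.relIndex N * Nat.card (H ⊓ N : Subgroup G) := by
    rw [mul_comm, ← Subgroup.inf_relIndex_right H N]
    have := Subgroup.relIndex_mul_relIndex (⊥ : Subgroup G) (H ⊓ N) N bot_le inf_le_right
    simpa [Subgroup.relIndex_bot_left] using this.symm
  have hHpos : 0 < Nat.card H := Nat.card_pos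
  have key : H.relIndex (H ⊔ N) * Nat.card H = H.relIndex N * Nat.card H := by
    rw [← e1, e2, hc, e4]
    rw [e3]
    ring
  exact Nat.eq_of_mul_eq_mul_right hHpos key

/-- `[N : S ∩ N]` divides `[K : S ∩ K]` if `N` is normal in `K`. -/
theorem relIndex_dvd_of_normalIn (S : Subgroup G) {N K : Subgroup G} (h : NormalIn N K) :
    S.relIndex N ∣ S.relIndex K := by
  have hn : (N.subgroupOf K).Normal := normal_subgroupOf_of_normalIn h
  have := relIndex_dvd_index_of_normal_right (S.subgroupOf K) (N := N.subgroupOf K)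
  rwa [Subgroup.relIndex_subgroupOf h.1] at this

/-- `[A : S ∩ A]` divides `[K : S ∩ K]` if `A` is subnormal in `K`. -/
theorem relIndex_dvd_of_sn (S : Subgroup G) {A K : Subgroup G} (h : SN A K) :
    S.relIndex A ∣ S.relIndex K := by
  induction h with
  | refl => exact dvd_rfl
  | tail _ h ih => exact ih.trans (relIndex_dvd_of_normalIn S h)

/-- A `p`-group `X` with a subgroup `Q` of index prime to `p` in an overgroup `Z`: then `X ≤ Q`. -/
theorem le_of_isPGroup_of_relIndex {p : ℕ} [Fact p.Prime] {X Q Z : Subgroup G}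
    (hX : IsPGroup p X) (hQX : Q ≤ X) (hXZ : X ≤ Z) (h : ¬ p ∣ Q.relIndex Z) : X ≤ Q := by
  have h1 : Q.relIndex X ∣ Q.relIndex Z := by
    rw [← Subgroup.relIndex_mul_relIndex Q X Z hQX hXZ]
    exact dvd_mul_right _ _
  have h2 : Q.relIndex X ∣ Nat.card X := Subgroup.relIndex_dvd_card _ _
  obtain ⟨n, hn⟩ := IsPGroup.iff_card.mp hX
  rw [hn] at h2
  obtain ⟨j, _, hj⟩ := (Nat.dvd_prime_pow Fact.out).1 h2
  have : j = 0 := by
    by_contra hj0
    apply h
    refine dvd_trans ?_ h1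
    rw [hj]
    exact dvd_pow_self _ hj0
  rw [this, pow_zero] at hj
  exact Subgroup.relIndex_eq_one.mp hj

theorem card_lt_of_ne_top {M : Subgroup G} (h : M ≠ ⊤) : Nat.card M < Nat.card G := by
  have h1 := Subgroup.card_mul_index M
  have h2 : M.index ≠ 1 := fun hi => h (Subgroup.index_eq_one.mp hi)
  have h3 : M.index ≠ 0 := Subgroup.index_ne_zero_of_finite
  have h4 : 0 < Nat.card M := Nat.card_pos
  have h5 : 2 ≤ M.index := by omega
  rw [← h1]
  nlinarith

theorem card_quotient_lt {E : Subgroup G} [E.Normal] (h : E ≠ ⊥) :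
    Nat.card (G ⧸ E) < Nat.card G := by
  have h1 := Subgroup.card_mul_index E
  have h2 : Nat.card E ≠ 1 := fun hc => h (Subgroup.eq_bot_of_card_eq E hc)
  have h3 : 0 < Nat.card E := Nat.card_pos
  have h5 : 2 ≤ Nat.card E := by omega
  have h6 : 0 < E.index := Nat.pos_of_ne_zero Subgroup.index_ne_zero_of_finite
  have h7 : Nat.card (G ⧸ E) = E.index := rfl
  rw [h7, ← h1]
  nlinarith

end aux

/-- The statement for a single group. -/
def Goal (p : ℕ) (G : Type u) [Group G] : Prop :=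
  ∀ S : Subgroup G, IsPGroup p S → ¬ p ∣ S.index → ∀ A B : Subgroup G, SN A ⊤ → SN B ⊤ →
    (A ⊔ B) ⊓ S = (A ⊓ S) ⊔ (B ⊓ S)

section transfer

variable {p : ℕ} [Fact p.Prime] {G : Type u} [Group G] [Finite G]

/-- Transfer the statement from a subgroup. -/
theorem transfer_sub (M : Subgroup G) (hM : Goal p M) {S : Subgroup G} (hS : IsPGroup p S)
    (hSM : ¬ p ∣ S.relIndex M) {A B : Subgroup G} (hA : SN A M) (hB : SN B M) :
    (A ⊔ B) ⊓ S = (A ⊓ S) ⊔ (B ⊓ S) := by
  have hAM := hA.le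
  have hBM := hB.le
  have hS' : IsPGroup p (S.subgroupOf M) := hS.comap_of_injective M.subtype M.subtype_injective
  have key := hM (S.subgroupOf M) hS' hSM (A.subgroupOf M) (B.subgroupOf M)
    (sn_top_of_isSubnormal (isSubnormal_subgroupOf_of_sn hA))
    (sn_top_of_isSubnormal (isSubnormal_subgroupOf_of_sn hB))
  have key2 := congrArg (Subgroup.map M.subtype) key
  rw [Subgroup.map_inf _ _ _ M.subtype_injective, Subgroup.map_sup, Subgroup.map_sup,
    Subgroup.map_inf _ _ _ M.subtype_injective, Subgroup.map_inf _ _ _ M.subtype_injective,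
    Subgroup.subgroupOf_map_subtype, Subgroup.subgroupOf_map_subtype,
    Subgroup.subgroupOf_map_subtype, inf_eq_left.mpr hAM, inf_eq_left.mpr hBM] at key2
  have e1 : (A ⊔ B) ⊓ (S ⊓ M) = (A ⊔ B) ⊓ S := by
    rw [inf_comm S M, ← inf_assoc, inf_eq_left.mpr (sup_le hAM hBM)]
  have e2 : A ⊓ (S ⊓ M) = A ⊓ S := by
    rw [inf_comm S M, ← inf_assoc, inf_eq_left.mpr hAM]
  have e3 : B ⊓ (S ⊓ M) = B ⊓ S := by
    rw [inf_comm S M, ← inf_assoc, inf_eq_left.mpr hBM]
  rwa [e1, e2, e3] at key2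

/-- Images of `A ∩ S`, for `A ∩ S` Sylow in `A`. -/
theorem map_inf_le_map_inf {G' : Type*} [Group G'] [Finite G'] (f : G →* G') {S A : Subgroup G}
    (hS : IsPGroup p S) (hA : ¬ p ∣ S.relIndex A) :
    A.map f ⊓ S.map f ≤ (A ⊓ S).map f := by
  set Q := (A ⊓ S).map f with hQ
  have hQle : Q ≤ A.map f ⊓ S.map f :=
    le_inf (Subgroup.map_mono inf_le_left) (Subgroup.map_mono inf_le_right)
  have hX : IsPGroup p (A.map f ⊓ S.map f : Subgroup G') :=
    (hS.map f).to_le inf_le_right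
  refine le_of_isPGroup_of_relIndex hX hQle inf_le_left ?_
  have h1 : Q.relIndex (A.map f) = (Q.comap f).relIndex A := (Subgroup.relIndex_comap Q f A).symm
  have h2 : A ⊓ S ≤ Q.comap f := Subgroup.le_comap_map f _
  have h3 : (Q.comap f).relIndex A ∣ (A ⊓ S).relIndex A := Subgroup.relIndex_dvd_of_le_left _ h2
  rw [Subgroup.inf_relIndex_left] at h3
  rw [h1]
  exact fun hd => hA (hd.trans h3)

/-- Transfer the statement from a quotient. -/
theorem transfer_quot (E : Subgroup G) [hEn : E.Normal] (hE : Goal p (G ⧸ E)) {S : Subgroup G}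
    (hS : IsPGroup p S) (hSi : ¬ p ∣ S.index) {A B : Subgroup G} (hA : SN A ⊤) (hB : SN B ⊤)
    (hAB : A ⊔ B = ⊤) (hES : E ⊓ S ≤ (A ⊓ S) ⊔ (B ⊓ S)) :
    S ≤ (A ⊓ S) ⊔ (B ⊓ S) := by
  set f := QuotientGroup.mk' E with hf
  have hsurj : Function.Surjective f := QuotientGroup.mk'_surjective E
  have hS' : IsPGroup p (S.map f) := hS.map f
  have hSi' : ¬ p ∣ (S.map f).index := fun hd => hSi (hd.trans (Subgroup.index_map_dvd S hsurj))
  have hmaptop : (⊤ : Subgroup G).map f = ⊤ := (Subgroup.map_top_of_surjective f hsurj)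
  have hA' : SN (A.map f) ⊤ := by
    have := hA.map f
    rwa [hmaptop] at this
  have hB' : SN (B.map f) ⊤ := by
    have := hB.map f
    rwa [hmaptop] at this
  have key := hE (S.map f) hS' hSi' (A.map f) (B.map f) hA' hB'
  rw [← Subgroup.map_sup, hAB, hmaptop, top_inf_eq] at key
  have hAi : ¬ p ∣ S.relIndex A := by
    have := relIndex_dvd_of_sn S hA
    rw [Subgroup.relIndex_top_right] at this
    exact fun hd => hSi (hd.trans this)
  have hBi : ¬ p ∣ S.relIndex B := by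
    have := relIndex_dvd_of_sn S hB
    rw [Subgroup.relIndex_top_right] at this
    exact fun hd => hSi (hd.trans this)
  have h1 := map_inf_le_map_inf f hS hAi
  have h2 := map_inf_le_map_inf f hS hBi
  have h3 : S.map f ≤ ((A ⊓ S) ⊔ (B ⊓ S)).map f := by
    rw [key, Subgroup.map_sup]
    exact sup_le_sup h1 h2
  intro x hx
  obtain ⟨t, ht, htx⟩ := h3 (Subgroup.mem_map_of_mem f hx)
  have htS : t ∈ S := (sup_le inf_le_right inf_le_right : (A ⊓ S) ⊔ (B ⊓ S) ≤ S) ht
  have hmem : t⁻¹ * x ∈ E := by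
    have : (t : G ⧸ E) = x := htx
    exact QuotientGroup.eq.mp this
  have hmem2 : t⁻¹ * x ∈ E ⊓ S := ⟨hmem, S.mul_mem (S.inv_mem htS) hx⟩
  have := Subgroup.mul_mem _ ht (hES hmem2)
  simpa using this

end transfer

section engel

variable {G : Type*} [Group G]

/-- The iterated commutator used in Baer's theorem. -/
abbrev ec (n : ℕ) (a x : G) : G := (List.replicate n a).foldl (fun u v => u * v * u⁻¹ * v⁻¹) x

theorem ec_zero (a x : G) : ec 0 a x = x := rfl

theorem ec_succ (n : ℕ) (a x : G) : ec (n + 1) a x = ec n a x * a * (ec n a x)⁻¹ * a⁻¹ := by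
  simp only [ec]
  rw [List.replicate_succ', List.foldl_append]
  simp only [List.foldl_cons, List.foldl_nil]

theorem ec_succ' (n : ℕ) (a x : G) : ec (n + 1) a x = ec n a (x * a * x⁻¹ * a⁻¹) := by
  simp only [ec]
  rw [List.replicate_succ, List.foldl_cons]

theorem coe_ec {H : Subgroup G} (n : ℕ) (a x : H) : ((ec n a x : H) : G) = ec n (a : G) (x : G) := by
  induction n with
  | zero => rfl
  | succ n ih =>
    rw [ec_succ, ec_succ]
    simp only [Subgroup.coe_mul, Subgroup.coe_inv, ih]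

theorem ec_mem_of_sn {A Y : Subgroup G} (h : SN A Y) {a : G} (ha : a ∈ A) :
    ∀ x ∈ Y, ∃ n : ℕ, ec n a x ∈ A := by
  induction h using Relation.ReflTransGen.head_induction_on with
  | refl =>
    intro x hx
    exact ⟨0, hx⟩
  | @head X Z hXZ _ ih =>
    intro x hx
    obtain ⟨n, hn⟩ := ih (hXZ.1 ha) x hx
    refine ⟨n + 1, ?_⟩
    rw [ec_succ]
    exact X.mul_mem (hXZ.2 _ hn _ ha) (X.inv_mem ha)

theorem ec_mem_normal {L : Subgroup G} [hL : L.Normal] (a : G) {x : G} (hx : x ∈ L) (n : ℕ) :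
    ec n a x ∈ L := by
  induction n with
  | zero => exact hx
  | succ n ih =>
    rw [ec_succ]
    have h1 : a * (ec n a x)⁻¹ * a⁻¹ ∈ L := hL.conj_mem _ (L.inv_mem ih) a
    have h2 := L.mul_mem ih h1
    simpa [mul_assoc] using h2

theorem ec_eq_one_of_sn {L A : Subgroup G} [hL : L.Normal] (hA : SN A ⊤) (hAL : A ⊓ L = ⊥) {a : G}
    (ha : a ∈ A) {x : G} (hx : x ∈ L) : ∃ n : ℕ, ec n a x = 1 := by
  obtain ⟨n, hn⟩ := ec_mem_of_sn hA ha x (Subgroup.mem_top x)
  refine ⟨n, ?_⟩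
  have : ec n a x ∈ A ⊓ L := ⟨hn, ec_mem_normal a hx n⟩
  rw [hAL, Subgroup.mem_bot] at this
  exact this

/-- A subgroup normalized by two generating subgroups is normal. -/
theorem normal_of_conj {A B D : Subgroup G} (hAB : A ⊔ B = ⊤)
    (hA : ∀ a ∈ A, ∀ x ∈ D, a * x * a⁻¹ ∈ D) (hB : ∀ b ∈ B, ∀ x ∈ D, b * x * b⁻¹ ∈ D) :
    D.Normal := by
  have aux : ∀ C : Subgroup G, (∀ c ∈ C, ∀ x ∈ D, c * x * c⁻¹ ∈ D) →
      C ≤ Subgroup.normalizer (D : Set G) := by
    intro C hC c hc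
    rw [Subgroup.mem_normalizer_iff]
    intro x
    refine ⟨hC c hc x, fun h => ?_⟩
    have := hC c⁻¹ (C.inv_mem hc) _ h
    simpa [mul_assoc] using this
  have htop : Subgroup.normalizer (D : Set G) = ⊤ := by
    apply top_le_iff.mp
    rw [← hAB]
    exact sup_le (aux A hA) (aux B hB)
  exact Subgroup.normalizer_eq_top_iff.mp htop

/-- The commutator of two generating subgroups is normal. -/
theorem commutator_normal_of_sup {A B : Subgroup G} (hAB : A ⊔ B = ⊤) : (⁅A, B⁆ : Subgroup G).Normal := by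
  apply normal_of_conj hAB
  · intro a ha x hx
    have hle : ⁅A, B⁆ ≤ (⁅A, B⁆ : Subgroup G).comap (MulAut.conj a).toMonoidHom := by
      rw [Subgroup.commutator_le]
      intro g₁ hg₁ g₂ hg₂
      have h1 : ⁅a * g₁, g₂⁆ ∈ (⁅A, B⁆ : Subgroup G) :=
        Subgroup.commutator_mem_commutator (A.mul_mem ha hg₁) hg₂
      have h2 : ⁅a, g₂⁆ ∈ (⁅A, B⁆ : Subgroup G) := Subgroup.commutator_mem_commutator ha hg₂
      have h3 := Subgroup.mul_mem _ h1 (Subgroup.inv_mem _ h2)
      have e : a * ⁅g₁, g₂⁆ * a⁻¹ = ⁅a * g₁, g₂⁆ * ⁅a, g₂⁆⁻¹ := by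
        simp only [commutatorElement_def]
        group
      rw [Subgroup.mem_comap]
      change a * ⁅g₁, g₂⁆ * a⁻¹ ∈ _
      rw [e]
      exact h3
    simpa [MulAut.conj_apply] using hle hx
  · intro b hb x hx
    have hle : ⁅A, B⁆ ≤ (⁅A, B⁆ : Subgroup G).comap (MulAut.conj b).toMonoidHom := by
      rw [Subgroup.commutator_le]
      intro g₁ hg₁ g₂ hg₂
      have h1 : ⁅g₁, b * g₂⁆ ∈ (⁅A, B⁆ : Subgroup G) :=
        Subgroup.commutator_mem_commutator hg₁ (B.mul_mem hb hg₂)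
      have h2 : ⁅g₁, b⁆ ∈ (⁅A, B⁆ : Subgroup G) := Subgroup.commutator_mem_commutator hg₁ hb
      have h3 := Subgroup.mul_mem _ (Subgroup.inv_mem _ h2) h1
      have e : b * ⁅g₁, g₂⁆ * b⁻¹ = ⁅g₁, b⁆⁻¹ * ⁅g₁, b * g₂⁆ := by
        simp only [commutatorElement_def]
        group
      rw [Subgroup.mem_comap]
      change b * ⁅g₁, g₂⁆ * b⁻¹ ∈ _
      rw [e]
      exact h3
    simpa [MulAut.conj_apply] using hle hx

variable [Finite G]

/-- Congruent elements commute modulo `L` with everything in `L ⊔ ⟨a⟩`. -/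
theorem comm_mem_of_mem_sup {L : Subgroup G} [hL : L.Normal] {a c h : G}
    (hac : a⁻¹ * c ∈ L) (hh : h ∈ L ⊔ Subgroup.zpowers a) : h * c * h⁻¹ * c⁻¹ ∈ L := by
  set C : Subgroup G :=
    (Subgroup.centralizer ({(QuotientGroup.mk c : G ⧸ L)} : Set (G ⧸ L))).comap (QuotientGroup.mk' L)
    with hC
  have hcentral : ∀ x : G, x ∈ C ↔ (QuotientGroup.mk x : G ⧸ L) * QuotientGroup.mk c =
      QuotientGroup.mk c * (QuotientGroup.mk x : G ⧸ L) := by
    intro x
    rw [hC, Subgroup.mem_comap, Subgroup.mem_centralizer_singleton_iff]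
    rfl
  have hLC : L ≤ C := by
    intro x hx
    rw [hcentral]
    have : (QuotientGroup.mk x : G ⧸ L) = 1 := (QuotientGroup.eq_one_iff x).mpr hx
    rw [this]
    simp
  have hac' : (QuotientGroup.mk a : G ⧸ L) = QuotientGroup.mk c := QuotientGroup.eq.mpr hac
  have haC : a ∈ C := by
    rw [hcentral, hac']
  have hle : L ⊔ Subgroup.zpowers a ≤ C := sup_le hLC (Subgroup.zpowers_le.mpr haC)
  have hhC := hle hh
  rw [hcentral] at hhC
  rw [← QuotientGroup.eq_one_iff]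
  simp only [QuotientGroup.mk_mul, QuotientGroup.mk_inv]
  rw [hhC]
  group

/-- Left Engel elements of `H`: reduce to the action on `L`. -/
theorem mem_fitting_of_engel {L H : Subgroup G} [hL : L.Normal] {A : Subgroup G}
    (hA : SN A ⊤) (hAL : A ⊓ L = ⊥) {a : G} (ha : a ∈ A) (haH : a ∈ H)
    (hcomm : ∀ h ∈ H, h * a * h⁻¹ * a⁻¹ ∈ L) :
    (⟨a, haH⟩ : H) ∈ Cfsg.fittingSubgroup H := by
  rw [Cfsg.Agent.S3937.result]
  intro x
  have hy := hcomm x x.2
  obtain ⟨n, hn⟩ := ec_eq_one_of_sn hA hAL ha hy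
  refine ⟨n + 1, ?_⟩
  have h1 : ((ec (n + 1) (⟨a, haH⟩ : H) x : H) : G) = 1 := by
    rw [coe_ec, ec_succ']
    exact hn
  exact Subtype.ext h1

/-- The core step: if `A ∩ L = 1`, `F(L)` is a `p`-group and `a ∈ A` is a `p'`-element, `b` an
element with `[a, b] ∈ L`, then `a` and `b` commute. -/
theorem commute_of_core {p : ℕ} [hp : Fact p.Prime] {L A : Subgroup G} [hL : L.Normal]
    (hLp : IsPGroup p (Cfsg.fittingSubgroup L)) (hA : SN A ⊤) (hAL : A ⊓ L = ⊥) {a : G}
    (ha : a ∈ A) (hcop : (orderOf a).Coprime p) (b : G) (hz : a⁻¹ * (b⁻¹ * a * b) ∈ L) :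
    a * b = b * a := by
  set a₁ := b⁻¹ * a * b with ha₁
  set z := a⁻¹ * a₁ with hzdef
  have ha₁eq : a₁ = a * z := by simp [hzdef]
  -- the conjugate subgroup
  have hA₁ : SN (cj b⁻¹ A) ⊤ := by
    have := hA.conj b⁻¹
    rwa [cj_eq_self_of_mem (Subgroup.mem_top _)] at this
  have hA₁L : cj b⁻¹ A ⊓ L = ⊥ := by
    rw [eq_bot_iff]
    intro x hx
    have hx1 : x ∈ cj b⁻¹ A := hx.1
    have hx2 : x ∈ L := hx.2
    rw [mem_cj, inv_inv] at hx1
    have h2 : b * x * b⁻¹ ∈ A ⊓ L := ⟨hx1, hL.conj_mem x hx2 b⟩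
    rw [hAL, Subgroup.mem_bot] at h2
    rw [Subgroup.mem_bot]
    have h3 : x = b⁻¹ * (b * x * b⁻¹) * b := by group
    rw [h3, h2]
    simp
  have ha₁mem : a₁ ∈ cj b⁻¹ A := by
    rw [mem_cj, inv_inv, ha₁]
    have : b * (b⁻¹ * a * b) * b⁻¹ = a := by group
    rwa [this]
  -- the group `H`
  set H : Subgroup G := L ⊔ Subgroup.zpowers a with hH
  have haH : a ∈ H := (le_sup_right : Subgroup.zpowers a ≤ H) (Subgroup.mem_zpowers a)
  have hzH : z ∈ H := (le_sup_left : L ≤ H) hz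
  have ha₁H : a₁ ∈ H := by
    rw [ha₁eq]
    exact H.mul_mem haH hzH
  have h1 : (⟨a, haH⟩ : H) ∈ Cfsg.fittingSubgroup H :=
    mem_fitting_of_engel hA hAL ha haH (fun h hh =>
      comm_mem_of_mem_sup (by simp) hh)
  have h2 : (⟨a₁, ha₁H⟩ : H) ∈ Cfsg.fittingSubgroup H :=
    mem_fitting_of_engel hA₁ hA₁L ha₁mem ha₁H (fun h hh =>
      comm_mem_of_mem_sup hz hh)
  have hzF : (⟨z, hzH⟩ : H) ∈ Cfsg.fittingSubgroup H := by
    have := Subgroup.mul_mem _ (Subgroup.inv_mem _ h1) h2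
    have e : (⟨z, hzH⟩ : H) = (⟨a, haH⟩ : H)⁻¹ * ⟨a₁, ha₁H⟩ := Subtype.ext rfl
    rw [e]
    exact this
  -- `z` lies in `F(L)`
  have hFn : (Cfsg.fittingSubgroup H).Normal := fittingSubgroup_normal
  have hFnil : Group.IsNilpotent (Cfsg.fittingSubgroup H) := isNilpotent_fittingSubgroup
  set W : Subgroup L := ((Cfsg.fittingSubgroup H).comap
    (Subgroup.inclusion (le_sup_left : L ≤ H))) with hW
  have hWn : W.Normal := Subgroup.Normal.comap hFn _
  have hWnil : Group.IsNilpotent W := by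
    let φ : W →* Cfsg.fittingSubgroup H :=
      { toFun := fun x => ⟨Subgroup.inclusion (le_sup_left : L ≤ H) x.1, x.2⟩
        map_one' := rfl
        map_mul' := fun _ _ => rfl }
    have hφ : Function.Injective φ := by
      intro x y hxy
      have h3 : ((φ x : H) : G) = ((φ y : H) : G) := by rw [hxy]
      exact Subtype.ext (Subtype.ext h3)
    have hr : Group.IsNilpotent φ.range := inferInstance
    exact Group.nilpotent_of_mulEquiv (MonoidHom.ofInjective hφ).symm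
  have hzW : (⟨z, hz⟩ : L) ∈ W := hzF
  have hzFL : (⟨z, hz⟩ : L) ∈ Cfsg.fittingSubgroup L := le_fittingSubgroup hWnil hzW
  obtain ⟨k, hk⟩ := Cfsg.Agent.Lib.Nilpotent.Elements.exists_pow_eq_one_of_mem hLp hzFL
  have hzk : z ^ p ^ k = 1 := by
    have := congrArg Subtype.val hk
    simpa using this
  -- commute in the nilpotent group
  have hcom : Commute (⟨⟨a, haH⟩, h1⟩ : Cfsg.fittingSubgroup H) ⟨⟨z, hzH⟩, hzF⟩ := by
    apply Cfsg.Agent.Lib.Nilpotent.Elements.commute_of_coprime_orderOf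
    have h4 : orderOf (⟨⟨a, haH⟩, h1⟩ : Cfsg.fittingSubgroup H) ∣ orderOf a := by
      apply orderOf_dvd_of_pow_eq_one
      apply Subtype.ext
      apply Subtype.ext
      simp [pow_orderOf_eq_one]
    have h5 : orderOf (⟨⟨z, hzH⟩, hzF⟩ : Cfsg.fittingSubgroup H) ∣ p ^ k := by
      apply orderOf_dvd_of_pow_eq_one
      apply Subtype.ext
      apply Subtype.ext
      simpa using hzk
    exact Nat.Coprime.coprime_dvd_left h4 (Nat.Coprime.coprime_dvd_right h5 (hcop.pow_right k))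
  have hcomG : a * z = z * a := by
    have := congrArg (fun x : Cfsg.fittingSubgroup H => ((x : H) : G)) hcom.eq
    simpa using this
  have hcomm' : Commute a z := hcomG
  -- conclude
  have hm : a₁ ^ orderOf a = 1 := by
    rw [ha₁]
    have : b⁻¹ * a * b = (MulAut.conj b⁻¹) a := by simp
    rw [this, ← map_pow, pow_orderOf_eq_one, map_one]
  have hzm : z ^ orderOf a = 1 := by
    rw [ha₁eq, hcomm'.mul_pow, pow_orderOf_eq_one, one_mul] at hm
    exact hm
  have hzord1 : orderOf z ∣ orderOf a := orderOf_dvd_of_pow_eq_one hzm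
  have hzord2 : orderOf z ∣ p ^ k := orderOf_dvd_of_pow_eq_one hzk
  have hz1 : orderOf z = 1 := by
    exact Nat.eq_one_of_dvd_coprimes (hcop.pow_right k) hzord1 hzord2
  have hz2 : z = 1 := orderOf_eq_one_iff.mp hz1
  have ha₁a : a₁ = a := by rw [ha₁eq, hz2, mul_one]
  have h6 : b⁻¹ * a * b = a := ha₁a
  calc a * b = b * (b⁻¹ * a * b) := by group
    _ = b * a := by rw [h6]

end engel

section final

variable {G : Type*} [Group G] [Finite G] {p : ℕ}

/-- The subgroup generated by the `p'`-elements of `A`. -/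
def pp (p : ℕ) (A : Subgroup G) : Subgroup G :=
  Subgroup.closure {a : G | a ∈ A ∧ (orderOf a).Coprime p}

theorem pp_le (A : Subgroup G) : pp p A ≤ A := by
  rw [pp, Subgroup.closure_le]
  intro a ha
  exact ha.1

theorem pp_normalIn (A : Subgroup G) : NormalIn (pp p A) A := by
  refine ⟨pp_le A, fun b hb x hx => ?_⟩
  have hle : pp p A ≤ (pp p A).comap (MulAut.conj b).toMonoidHom := by
    rw [pp, Subgroup.closure_le]
    intro a ha
    apply Subgroup.subset_closure
    refine ⟨?_, ?_⟩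
    · exact A.mul_mem (A.mul_mem hb ha.1) (A.inv_mem hb)
    · have : orderOf ((MulAut.conj b).toMonoidHom a) = orderOf a :=
        orderOf_injective _ (MulAut.conj b).injective a
      rw [this]
      exact ha.2
  exact hle hx

theorem pow_mem_pp [hp : Fact p.Prime] {A : Subgroup G} {a : G} (ha : a ∈ A) :
    ∃ k : ℕ, a ^ p ^ k ∈ pp p A := by
  refine ⟨(orderOf a).factorization p, Subgroup.subset_closure ⟨A.pow_mem ha _, ?_⟩⟩
  have hpos := orderOf_pos a
  have h1 : (a ^ p ^ (orderOf a).factorization p) ^ (orderOf a / p ^ (orderOf a).factorization p) = 1 := by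
    rw [← pow_mul, Nat.ordProj_mul_ordCompl_eq_self, pow_orderOf_eq_one]
  have h2 := orderOf_dvd_of_pow_eq_one h1
  exact Nat.Coprime.coprime_dvd_left h2 (Nat.coprime_ordCompl hp.out hpos.ne').symm

theorem pp_sup_inf_eq [hp : Fact p.Prime] {A S : Subgroup G} (hA : ¬ p ∣ S.relIndex A) :
    pp p A ⊔ (A ⊓ S) = A := by
  apply le_antisymm (sup_le (pp_le A) inf_le_left)
  set W := pp p A ⊔ (A ⊓ S) with hW
  have h1 : W.relIndex A ∣ S.relIndex A := by
    rw [← Subgroup.inf_relIndex_left A S]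
    exact Subgroup.relIndex_dvd_of_le_left _ le_sup_right
  have hnorm : ((pp p A).subgroupOf A).Normal := normal_subgroupOf_of_normalIn (pp_normalIn A)
  have hpg : IsPGroup p (A ⧸ (pp p A).subgroupOf A) := by
    intro x
    induction x using QuotientGroup.induction_on with
    | H y =>
      obtain ⟨k, hk⟩ := pow_mem_pp (p := p) y.2
      refine ⟨k, ?_⟩
      rw [← QuotientGroup.mk_pow, QuotientGroup.eq_one_iff, Subgroup.mem_subgroupOf]
      simpa using hk
  obtain ⟨n, hn⟩ := IsPGroup.iff_card.mp hpg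
  have h2 : W.relIndex A ∣ p ^ n := by
    rw [← hn]
    have h3 : (W.subgroupOf A).index ∣ ((pp p A).subgroupOf A).index :=
      Subgroup.index_dvd_of_le (Subgroup.comap_mono le_sup_left)
    exact h3
  obtain ⟨j, _, hj⟩ := (Nat.dvd_prime_pow hp.out).1 h2
  have hj0 : j = 0 := by
    by_contra hne
    apply hA
    refine dvd_trans ?_ h1
    rw [hj]
    exact dvd_pow_self _ hne
  rw [hj0, pow_zero] at hj
  exact Subgroup.relIndex_eq_one.mp hj

/-- The final step: `p'`-elements of `A` commute with `B` and conversely. -/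
theorem le_of_commute [hp : Fact p.Prime] {S A B : Subgroup G} (hS : IsPGroup p S)
    (hSA : ¬ p ∣ S.relIndex A) (hSB : ¬ p ∣ S.relIndex B) (hAB : A ⊔ B = ⊤)
    (h₁ : ∀ a ∈ A, (orderOf a).Coprime p → ∀ b ∈ B, a * b = b * a)
    (h₂ : ∀ b ∈ B, (orderOf b).Coprime p → ∀ a ∈ A, b * a = a * b) :
    S ≤ (A ⊓ S) ⊔ (B ⊓ S) := by
  set T := (A ⊓ S) ⊔ (B ⊓ S) with hT
  have hTS : T ≤ S := sup_le inf_le_right inf_le_right
  -- normality of the pieces
  have aux : ∀ {X Y : Subgroup G}, X ⊔ Y = ⊤ → (∀ a ∈ X, (orderOf a).Coprime p → ∀ b ∈ Y, a * b = b * a) →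
      (pp p X).Normal := by
    intro X Y hXY hc
    apply normal_of_conj hXY
    · exact (pp_normalIn X).2
    · intro b hb x hx
      have hle : pp p X ≤ Subgroup.centralizer ({b} : Set G) := by
        rw [pp, Subgroup.closure_le]
        intro a ha
        exact Subgroup.mem_centralizer_singleton_iff.mpr ((hc a ha.1 ha.2 b hb))
      have : x * b = b * x := Subgroup.mem_centralizer_singleton_iff.mp (hle hx)
      rw [← this]
      simpa using hx
  have hA₀ : (pp p A).Normal := aux hAB h₁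
  have hB₀ : (pp p B).Normal := aux (by rwa [sup_comm]) h₂
  -- index chain
  have step : ∀ (H X : Subgroup G) (hX : ¬ p ∣ S.relIndex X), pp p X ≤ X → (X ⊓ S) ≤ H →
      [(pp p X).Normal] → ¬ p ∣ H.relIndex (H ⊔ pp p X) := by
    intro H X hX hle hH _
    rw [relIndex_sup_eq]
    have h1 : H.relIndex (pp p X) ∣ (pp p X ⊓ S).relIndex (pp p X) :=
      Subgroup.relIndex_dvd_of_le_left _ ((inf_le_inf_right S hle).trans hH)
    rw [Subgroup.inf_relIndex_left] at h1
    have h2 : S.relIndex (pp p X) ∣ S.relIndex X := relIndex_dvd_of_normalIn S (pp_normalIn X)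
    exact fun hd => hX (hd.trans (h1.trans h2))
  have hs1 : ¬ p ∣ T.relIndex (T ⊔ pp p A) := step T A hSA (pp_le A) le_sup_left
  have hs2 : ¬ p ∣ (T ⊔ pp p A).relIndex ((T ⊔ pp p A) ⊔ pp p B) :=
    step _ B hSB (pp_le B) ((le_sup_right : _ ≤ T).trans le_sup_left)
  have htop : (T ⊔ pp p A) ⊔ pp p B = ⊤ := by
    apply top_le_iff.mp
    rw [← hAB]
    apply sup_le
    · refine (pp_sup_inf_eq (p := p) hSA).ge.trans (sup_le ?_ ?_)
      · exact le_sup_right.trans le_sup_left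
      · exact (le_sup_left : _ ≤ T).trans (le_sup_left.trans le_sup_left)
    · refine (pp_sup_inf_eq (p := p) hSB).ge.trans (sup_le ?_ ?_)
      · exact le_sup_right
      · exact (le_sup_right : _ ≤ T).trans (le_sup_left.trans le_sup_left)
  rw [htop] at hs2
  have hTi : ¬ p ∣ T.relIndex ⊤ := by
    rw [← Subgroup.relIndex_mul_relIndex T (T ⊔ pp p A) ⊤ le_sup_left le_top]
    intro hd
    rcases (Nat.Prime.dvd_mul hp.out).mp hd with h | h
    · exact hs1 h
    · exact hs2 h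
  exact le_of_isPGroup_of_relIndex hS hTS le_top hTi

end final

section core

variable {p : ℕ} [hp : Fact p.Prime] {G : Type u} [Group G] [Finite G]

/-- `F(L)` is a `p`-group if `G` has no nontrivial normal `p'`-subgroup. -/
theorem isPGroup_fitting_of_no_normal {L : Subgroup G} [hL : L.Normal]
    (hE : ∀ E : Subgroup G, E.Normal → (Nat.card E).Coprime p → E = ⊥) :
    IsPGroup p (Cfsg.fittingSubgroup L) := by
  have hq : ∀ q : Nat.Primes, (q : ℕ) ≠ p → Cfsg.pCore (q : ℕ) L = ⊥ := by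
    rintro ⟨q, hqp⟩ hne
    haveI : Fact q.Prime := ⟨hqp⟩
    have hchar : (Cfsg.pCore q L).Characteristic := Cfsg.Agent.Lib.Basic.PCore.pCore_char q L
    have hn := map_subtype_normal_of_characteristic (N := L) (Cfsg.pCore q L)
    have hpg : IsPGroup q (Cfsg.pCore q L) := isPGroup_pCore q
    obtain ⟨n, hn'⟩ := IsPGroup.iff_card.mp hpg
    have hcard : Nat.card ((Cfsg.pCore q L).map L.subtype) = q ^ n := by
      rw [← hn']
      exact Subgroup.card_map_of_injective L.subtype_injective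
    have hcop : (Nat.card ((Cfsg.pCore q L).map L.subtype)).Coprime p := by
      rw [hcard]
      exact Nat.Coprime.pow_left _ ((Nat.coprime_primes hqp hp.out).mpr hne)
    have h0 := hE _ hn hcop
    exact (Subgroup.map_eq_bot_iff_of_injective _ L.subtype_injective).mp h0
  have hF : Cfsg.fittingSubgroup L = Cfsg.pCore p L := by
    apply le_antisymm
    · rw [fittingSubgroup_eq_iSup_primes]
      apply iSup_le
      intro q
      by_cases hqp : (q : ℕ) = p
      · rw [hqp]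
      · rw [hq q hqp]
        exact bot_le
    · exact pCore_le_fittingSubgroup p
  rw [hF]
  exact isPGroup_pCore p

/-- The maximal-pair argument. -/
theorem core (hsub : ∀ M : Subgroup G, M ≠ ⊤ → Goal p M)
    (hquot : ∀ (E : Subgroup G) [E.Normal], E ≠ ⊥ → Goal p (G ⧸ E))
    {S : Subgroup G} (hS : IsPGroup p S) (hSi : ¬ p ∣ S.index) {A₀ B₀ : Subgroup G}
    (hA₀ : SN A₀ ⊤) (hB₀ : SN B₀ ⊤) (hAB₀ : A₀ ⊔ B₀ = ⊤) :
    S ≤ (A₀ ⊓ S) ⊔ (B₀ ⊓ S) := by
  by_contra hnot₀
  let PP : Set (Subgroup G × Subgroup G) := {X | SN X.1 ⊤ ∧ SN X.2 ⊤ ∧ X.1 ⊔ X.2 = ⊤ ∧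
    ¬ S ≤ (X.1 ⊓ S) ⊔ (X.2 ⊓ S)}
  have hmem₀ : (A₀, B₀) ∈ PP := ⟨hA₀, hB₀, hAB₀, hnot₀⟩
  obtain ⟨⟨A, B⟩, -, hmax⟩ := (Set.toFinite PP).exists_le_maximal hmem₀
  obtain ⟨hA, hB, hAB, hnot⟩ := hmax.prop
  simp only at hA hB hAB hnot
  have hrel : ∀ X : Subgroup G, SN X ⊤ → ¬ p ∣ S.relIndex X := by
    intro X hX hd
    have := relIndex_dvd_of_sn S hX
    rw [Subgroup.relIndex_top_right] at this
    exact hSi (hd.trans this)
  have hAne : A ≠ ⊤ := by
    rintro rfl
    apply hnot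
    simp only [top_inf_eq]
    exact le_sup_left
  have hBne : B ≠ ⊤ := by
    rintro rfl
    apply hnot
    simp only [top_inf_eq]
    exact le_sup_right
  -- normal closures
  set M₁ := ncl A ⊤ with hM₁
  set M₂ := ncl B ⊤ with hM₂
  have hM₁ne : M₁ ≠ ⊤ := hA.ncl_ne hAne
  have hM₂ne : M₂ ≠ ⊤ := hB.ncl_ne hBne
  have hM₁i : NormalIn M₁ ⊤ := ncl_normalIn le_top
  have hM₂i : NormalIn M₂ ⊤ := ncl_normalIn le_top
  have hM₁n : M₁.Normal := ⟨fun a ha g => hM₁i.2 g (Subgroup.mem_top g) a ha⟩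
  have hM₂n : M₂.Normal := ⟨fun a ha g => hM₂i.2 g (Subgroup.mem_top g) a ha⟩
  have hAM₁ : A ≤ M₁ := le_ncl A ⊤
  have hBM₂ : B ≤ M₂ := le_ncl B ⊤
  -- stability
  have stab : ∀ (X Y M : Subgroup G), SN X ⊤ → SN Y ⊤ → X ≤ M → NormalIn M ⊤ → M ≠ ⊤ →
      ((X ⊔ Y ⊓ M) ⊓ S ≤ (X ⊓ S) ⊔ (Y ⊓ S)) ∧ SN (X ⊔ Y ⊓ M) ⊤ := by
    intro X Y M hX hY hXM hMi hMne
    have hXM' : SN X M := hX.of_le hXM le_top
    have hYM' : SN (Y ⊓ M) M := by
      have := hY.inf M
      rwa [top_inf_eq] at this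
    have hMrel := hrel M hMi.sn
    constructor
    · rw [transfer_sub M (hsub M hMne) hS hMrel hXM' hYM']
      refine sup_le_sup_left ?_ _
      exact inf_le_inf_right S inf_le_left
    · have := joinIn ⊤ X (Y ⊓ M) hX (hYM'.trans hMi.sn)
      exact this
  have hBM₁ : B ⊓ M₁ ≤ A := by
    obtain ⟨h1, h2⟩ := stab A B M₁ hA hB hAM₁ hM₁i hM₁ne
    have hmem : ((A ⊔ B ⊓ M₁), B) ∈ PP := by
      refine ⟨h2, hB, ?_, ?_⟩
      · simp only
        apply top_le_iff.mp
        rw [← hAB]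
        exact sup_le_sup_right le_sup_left _
      · intro hle
        apply hnot
        refine hle.trans (sup_le h1 le_sup_right)
    have := hmax.le_of_ge hmem (show (A, B) ≤ ((A ⊔ B ⊓ M₁), B) from ⟨le_sup_left, le_rfl⟩)
    exact le_sup_right.trans this.1
  have hAM₂ : A ⊓ M₂ ≤ B := by
    obtain ⟨h1, h2⟩ := stab B A M₂ hB hA hBM₂ hM₂i hM₂ne
    have hmem : (A, (B ⊔ A ⊓ M₂)) ∈ PP := by
      refine ⟨hA, h2, ?_, ?_⟩
      · simp only
        apply top_le_iff.mp
        rw [← hAB]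
        exact sup_le_sup_left le_sup_left _
      · intro hle
        apply hnot
        refine hle.trans (sup_le le_sup_left ?_)
        rw [sup_comm (A ⊓ S)]
        exact h1
    have := hmax.le_of_ge hmem (show (A, B) ≤ (A, (B ⊔ A ⊓ M₂)) from ⟨le_rfl, le_sup_left⟩)
    exact le_sup_right.trans this.2
  -- `D = A ∩ B` is normal
  have hDn : (A ⊓ B).Normal := by
    apply normal_of_conj hAB
    · intro a ha x hx
      have hxM : x ∈ A ⊓ M₂ := ⟨hx.1, hBM₂ hx.2⟩
      have h1 : a * x * a⁻¹ ∈ A := A.mul_mem (A.mul_mem ha hx.1) (A.inv_mem ha)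
      have h2 : a * x * a⁻¹ ∈ M₂ := hM₂n.conj_mem x hxM.2 a
      exact ⟨h1, hAM₂ ⟨h1, h2⟩⟩
    · intro b hb x hx
      have hxM : x ∈ B ⊓ M₁ := ⟨hx.2, hAM₁ hx.1⟩
      have h1 : b * x * b⁻¹ ∈ B := B.mul_mem (B.mul_mem hb hx.2) (B.inv_mem hb)
      have h2 : b * x * b⁻¹ ∈ M₁ := hM₁n.conj_mem x hxM.2 b
      exact ⟨hBM₁ ⟨h1, h2⟩, h1⟩
  have hDbot : A ⊓ B = ⊥ := by
    by_contra hne
    apply hnot
    refine transfer_quot (A ⊓ B) (hquot _ hne) hS hSi hA hB hAB ?_
    exact (inf_le_inf_right S inf_le_left).trans le_sup_left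
  -- no normal `p'`-subgroups
  have hE : ∀ E : Subgroup G, E.Normal → (Nat.card E).Coprime p → E = ⊥ := by
    intro E hEn hcop
    by_contra hne
    apply hnot
    refine transfer_quot E (hquot _ hne) hS hSi hA hB hAB ?_
    have : E ⊓ S = ⊥ := by
      obtain ⟨n, hn⟩ := IsPGroup.iff_card.mp hS
      apply Subgroup.eq_bot_of_card_eq
      have h1 : Nat.card (E ⊓ S : Subgroup G) ∣ Nat.card E :=
        Subgroup.card_dvd_of_le inf_le_left
      have h2 : Nat.card (E ⊓ S : Subgroup G) ∣ p ^ n := by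
        rw [← hn]
        exact Subgroup.card_dvd_of_le inf_le_right
      exact Nat.eq_one_of_dvd_coprimes (hcop.pow_right n) h1 h2
    rw [this]
    exact bot_le
  -- the commutator
  set L : Subgroup G := ⁅A, B⁆ with hL
  have hLn : L.Normal := commutator_normal_of_sup hAB
  have hLM₁ : L ≤ M₁ := by
    rw [hL, Subgroup.commutator_le]
    intro g₁ hg₁ g₂ hg₂
    have h1 : g₂ * g₁⁻¹ * g₂⁻¹ ∈ M₁ := hM₁n.conj_mem _ (M₁.inv_mem (hAM₁ hg₁)) g₂
    have h2 := M₁.mul_mem (hAM₁ hg₁) h1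
    simpa [commutatorElement_def, mul_assoc] using h2
  have hLM₂ : L ≤ M₂ := by
    rw [hL, Subgroup.commutator_le]
    intro g₁ hg₁ g₂ hg₂
    have h1 : g₁ * g₂ * g₁⁻¹ ∈ M₂ := hM₂n.conj_mem _ (hBM₂ hg₂) g₁
    have h2 := M₂.mul_mem h1 (M₂.inv_mem (hBM₂ hg₂))
    simpa [commutatorElement_def] using h2
  have hAL : A ⊓ L = ⊥ := by
    rw [eq_bot_iff, ← hDbot]
    intro x hx
    exact ⟨hx.1, hAM₂ ⟨hx.1, hLM₂ hx.2⟩⟩
  have hBL : B ⊓ L = ⊥ := by
    rw [eq_bot_iff, ← hDbot]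
    intro x hx
    exact ⟨hBM₁ ⟨hx.1, hLM₁ hx.2⟩, hx.1⟩
  have hLp : IsPGroup p (Cfsg.fittingSubgroup L) := isPGroup_fitting_of_no_normal hE
  apply hnot
  refine le_of_commute hS (hrel A hA) (hrel B hB) hAB ?_ ?_
  · intro a ha hcop b hb
    refine commute_of_core hLp hA hAL ha hcop b ?_
    have : a⁻¹ * (b⁻¹ * a * b) = ⁅a⁻¹, b⁻¹⁆ := by
      simp [commutatorElement_def, mul_assoc]
    rw [this]
    exact Subgroup.commutator_mem_commutator (A.inv_mem ha) (B.inv_mem hb)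
  · intro b hb hcop a ha
    refine commute_of_core hLp hB hBL hb hcop a ?_
    have : b⁻¹ * (a⁻¹ * b * a) = ⁅a⁻¹, b⁻¹⁆⁻¹ := by
      simp [commutatorElement_def, mul_assoc]
    rw [this]
    exact Subgroup.inv_mem _ (Subgroup.commutator_mem_commutator (A.inv_mem ha) (B.inv_mem hb))

/-- The main theorem. -/
theorem goal_all (n : ℕ) : ∀ (G : Type u) [Group G] [Finite G], Nat.card G = n → Goal p G := by
  induction n using Nat.strong_induction_on with
  | _ n ih =>
    intro G _ _ hcard S hS hSi A B hA hB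
    have hsub : ∀ M : Subgroup G, M ≠ ⊤ → Goal p M := fun M hM =>
      ih (Nat.card M) (hcard ▸ card_lt_of_ne_top hM) M rfl
    have hquot : ∀ (E : Subgroup G) [E.Normal], E ≠ ⊥ → Goal p (G ⧸ E) := fun E _ hE =>
      ih (Nat.card (G ⧸ E)) (hcard ▸ card_quotient_lt hE) (G ⧸ E) rfl
    by_cases hJ : A ⊔ B = ⊤
    · rw [hJ, top_inf_eq]
      exact le_antisymm (core hsub hquot hS hSi hA hB hJ) (sup_le inf_le_right inf_le_right)
    · have hJsn : SN (A ⊔ B) ⊤ := joinIn ⊤ A B hA hB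
      have hJrel : ¬ p ∣ S.relIndex (A ⊔ B) := by
        intro hd
        have := relIndex_dvd_of_sn S hJsn
        rw [Subgroup.relIndex_top_right] at this
        exact hSi (hd.trans this)
      exact transfer_sub (A ⊔ B) (hsub _ hJ) hS hJrel (hA.of_le le_sup_left le_top)
        (hB.of_le le_sup_right le_top)

end core

/-- **Sylow subgroups and joins of subnormal subgroups.** -/
theorem inf_sup_eq {p : ℕ} [Fact p.Prime] {G : Type u} [Group G] [Finite G] {S : Subgroup G}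
    (hS : IsPGroup p S) (hSi : ¬ p ∣ S.index) {A B : Subgroup G} (hA : A.IsSubnormal)
    (hB : B.IsSubnormal) : (A ⊔ B) ⊓ S = (A ⊓ S) ⊔ (B ⊓ S) :=
  goal_all (Nat.card G) G rfl S hS hSi A B (sn_top_of_isSubnormal hA) (sn_top_of_isSubnormal hB)

end Cfsg.Agent.Lib.Nilpotent.SylowJoin
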