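import Mathlib
import Cfsg.Agent.Lib.Nilpotent.CNSolvable
import Cfsg.Agent.Lib.Components.Transport
import Cfsg.Agent.Lib.Coprime.Coset

/-!
Three-step groups: a quadratic element lies in `O_p`; no three-step group with a nilpotent normal
subgroup with nilpotent quotient; reduction of composite `p` to prime `p`.
-/

set_option autoImplicit false
set_option linter.style.haveILetI false

namespace Cfsg.Agent.Lib.Nilpotent.CNThreeStep

open Cfsg Cfsg.Agent.Lib.Nilpotent.Parts Cfsg.Agent.Lib.Nilpotent.Elements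
open scoped commutatorElement

section ring

/-- The Frobenius group identity in a ring. -/
theorem frobenius_ring_identity {R Γ : Type*} [Ring R] [Group Γ] (ρ : Γ →* R) (a b : Γ) (s p : ℕ)
    (hp0 : (p : R) = 0) (hodd : Odd p) (hquad : (ρ a - 1) * (ρ a - 1) = 0)
    (hcomm : ∀ j, 0 < j → j < p → Commute (ρ b) (ρ (a ^ j * b⁻¹ * (a ^ j)⁻¹)))
    (hnorm : ∀ j, 0 < j → j < p →
      ∑ t ∈ Finset.range s, (ρ (b * (a ^ j * b⁻¹ * (a ^ j)⁻¹))) ^ t = 0) :
    (s : R) = 0 := by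
  set r := ρ a with hr
  have hpow : ∀ j : ℕ, r ^ j = 1 + (j : R) * (r - 1) := by
    intro j
    induction j with
    | zero => simp
    | succ j ih =>
      have h1 : r = 1 + (r - 1) := by abel
      rw [pow_succ, ih]
      push_cast
      have h2 : (1 + (j : R) * (r - 1)) * r = r + (j : R) * ((r - 1) * r) := by
        rw [add_mul, one_mul, mul_assoc]
      have h3 : (r - 1) * r = r - 1 := by
        have : (r - 1) * r = (r - 1) * (r - 1) + (r - 1) := by
          rw [mul_sub, mul_one]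
          abel
        rw [this, hquad, zero_add]
      rw [h2, h3]
      rw [add_mul, one_mul]
      abel
  have hsum : ∑ j ∈ Finset.range p, r ^ j = 0 := by
    obtain ⟨m, hm⟩ := hodd
    have h1 : ∑ j ∈ Finset.range p, r ^ j
        = (p : R) + ((∑ j ∈ Finset.range p, j : ℕ) : R) * (r - 1) := by
      simp only [hpow]
      rw [Finset.sum_add_distrib, Finset.sum_const, Finset.card_range, nsmul_eq_mul, mul_one,
        ← Finset.sum_mul, Nat.cast_sum]
    have h2 : (∑ j ∈ Finset.range p, j) = p * m := by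
      rw [Finset.sum_range_id]
      rw [hm]
      have : (2 * m + 1) * (2 * m + 1 - 1) = 2 * ((2 * m + 1) * m) := by
        simp only [Nat.add_sub_cancel]
        ring
      rw [this]
      simp
    rw [h1, h2]
    push_cast
    rw [hp0]
    simp
  -- conjugates
  have hconj : ∀ t : ℕ, ∑ j ∈ Finset.range p, ρ (b ^ t * a ^ j * (b ^ t)⁻¹) = 0 := by
    intro t
    have h : ∀ j, ρ (b ^ t * a ^ j * (b ^ t)⁻¹) = ρ (b ^ t) * r ^ j * ρ ((b ^ t)⁻¹) := by
      intro j
      rw [map_mul, map_mul, map_pow ρ a j]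
    simp only [h]
    rw [← Finset.sum_mul, ← Finset.mul_sum, hsum, mul_zero, zero_mul]
  have htot : ∑ t ∈ Finset.range s, ∑ j ∈ Finset.range p, ρ (b ^ t * a ^ j * (b ^ t)⁻¹) = 0 :=
    Finset.sum_eq_zero fun t _ => hconj t
  rw [Finset.sum_comm] at htot
  have hp1 : 0 < p := hodd.pos
  obtain ⟨p', rfl⟩ : ∃ p', p = p' + 1 := ⟨p - 1, by omega⟩
  rw [Finset.sum_range_succ'] at htot
  have hzero : ∑ t ∈ Finset.range s, ρ (b ^ t * a ^ 0 * (b ^ t)⁻¹) = (s : R) := by
    simp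
  rw [hzero] at htot
  have hrest : ∀ j ∈ Finset.range p', ∑ t ∈ Finset.range s, ρ (b ^ t * a ^ (j + 1) * (b ^ t)⁻¹) = 0 := by
    intro j hj
    have hj' : j + 1 < p' + 1 := by
      have := Finset.mem_range.1 hj
      omega
    set J := j + 1 with hJ
    have hform : ∀ t, ρ (b ^ t * a ^ J * (b ^ t)⁻¹)
        = (ρ (b * (a ^ J * b⁻¹ * (a ^ J)⁻¹))) ^ t * r ^ J := by
      intro t
      rw [map_mul ρ b, (hcomm J (by omega) hj').mul_pow, ← map_pow, ← map_pow]
      have : (a ^ J * b⁻¹ * (a ^ J)⁻¹) ^ t = a ^ J * (b ^ t)⁻¹ * (a ^ J)⁻¹ := by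
        rw [conj_pow, inv_pow]
      rw [this, ← map_pow, ← map_mul, ← map_mul]
      congr 1
      group
    simp only [hform]
    rw [← Finset.sum_mul, hnorm J (by omega) hj', zero_mul]
  rw [Finset.sum_eq_zero hrest, zero_add] at htot
  exact htot

/-- The norm of a fixed point free endomorphism of finite order vanishes. -/
theorem norm_eq_zero_of_fpf {W : Type*} [AddCommGroup W] (f : AddMonoid.End W) (s : ℕ)
    (hfs : f ^ s = 1) (hfix : ∀ w, f w = w → w = 0) :
    ∑ t ∈ Finset.range s, f ^ t = 0 := by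
  have h1 : (f - 1) * ∑ t ∈ Finset.range s, f ^ t = f ^ s - 1 := mul_geom_sum f s
  rw [hfs, sub_self] at h1
  ext1 w
  set y := (∑ t ∈ Finset.range s, f ^ t) w with hy
  have h2 : ((f - 1) * ∑ t ∈ Finset.range s, f ^ t) w = 0 := by
    rw [h1]
    rfl
  have h3 : f y - y = 0 := h2
  have h4 : f y = y := sub_eq_zero.1 h3
  simpa using hfix y h4

end ring

section QF

variable {X : Type*} [Group X]

/-- A quadratic `p`-element cannot act on an elementary abelian `p`-group with `b` fixed point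
freely, if conjugates of `b` by powers of `a` act as powers of `b`, and `p` is odd. -/
theorem quadratic_contra [Finite X] {p s : ℕ} (hpp : p.Prime) (hodd : Odd p) (V : Subgroup X) [hVn : V.Normal]
    (hVc : ∀ v ∈ V, ∀ w ∈ V, v * w = w * v) (hVp : ∀ v ∈ V, v ^ p = 1) (hV1 : V ≠ ⊥)
    (hsp : s.Coprime p) (a b : X) (hb : b ^ s = 1)
    (hquad : ∀ v ∈ V, a * ⁅v, a⁆ * a⁻¹ = ⁅v, a⁆)
    (hact : ∀ j, 0 < j → j < p → ∃ m : ℕ,
      (∀ v ∈ V, (a ^ j * b⁻¹ * (a ^ j)⁻¹) * v * (a ^ j * b⁻¹ * (a ^ j)⁻¹)⁻¹ = b ^ m * v * (b ^ m)⁻¹) ∧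
      (∀ v ∈ V, b ^ (m + 1) * v * (b ^ (m + 1))⁻¹ = v → v = 1)) : False := by
  classical
  letI instV : CommGroup V := { (inferInstance : Group V) with
    mul_comm := fun x y => Subtype.ext (hVc x x.2 y y.2) }
  -- the action
  let c : X → V → V := fun g v => ⟨g * v * g⁻¹, hVn.conj_mem _ v.2 g⟩
  have hc_mul : ∀ g v w, c g (v * w) = c g v * c g w := by
    intro g v w
    apply Subtype.ext
    show g * ((v * w : V) : X) * g⁻¹ = (g * v * g⁻¹) * (g * w * g⁻¹)
    have : ((v * w : V) : X) = (v : X) * w := rfl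
    rw [this]
    group
  have hc_one : ∀ g, c g 1 = 1 := by
    intro g
    apply Subtype.ext
    show g * ((1 : V) : X) * g⁻¹ = ((1 : V) : X)
    have : ((1 : V) : X) = 1 := rfl
    rw [this]
    group
  let ρ₀ : X → AddMonoid.End (Additive V) := fun g =>
    { toFun := fun v => Additive.ofMul (c g v.toMul)
      map_zero' := by
        show Additive.ofMul (c g 1) = _
        rw [hc_one]
        rfl
      map_add' := fun v w => by
        show Additive.ofMul (c g (v.toMul * w.toMul)) = _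
        rw [hc_mul]
        rfl }
  have hρ₀ : ∀ g (v : Additive V), ((ρ₀ g v).toMul : X) = g * (v.toMul : X) * g⁻¹ := fun g v => rfl
  let ρ : X →* AddMonoid.End (Additive V) :=
    { toFun := ρ₀
      map_one' := by
        ext1 v
        apply Additive.toMul.injective
        apply Subtype.ext
        rw [hρ₀]
        simp
      map_mul' := fun g h => by
        ext1 v
        apply Additive.toMul.injective
        apply Subtype.ext
        show ((ρ₀ (g * h) v).toMul : X) = ((ρ₀ g (ρ₀ h v)).toMul : X)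
        rw [hρ₀, hρ₀, hρ₀]
        group }
  have hρ : ∀ g (v : Additive V), ((ρ g v).toMul : X) = g * (v.toMul : X) * g⁻¹ := fun g v => rfl
  have hp0 : ((p : ℕ) : AddMonoid.End (Additive V)) = 0 := by
    ext1 v
    show (p : AddMonoid.End (Additive V)) v = 0
    rw [AddMonoid.End.natCast_apply]
    apply Additive.toMul.injective
    apply Subtype.ext
    have : ((p • v).toMul : X) = (v.toMul : X) ^ p := by
      rw [toMul_nsmul]
      rfl
    rw [this]
    exact hVp _ (v.toMul).2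
  have hq : (ρ a - 1) * (ρ a - 1) = 0 := by
    ext1 v
    have h0 : ((ρ a - 1) * (ρ a - 1)) v = (ρ a - 1) ((ρ a - 1) v) := rfl
    rw [h0]
    have hw : ∀ w : Additive V, (ρ a - 1) w = ρ a w - w := fun w => rfl
    rw [hw, hw]
    apply Additive.toMul.injective
    apply Subtype.ext
    set v' : X := ((v.toMul : V) : X) with hv'
    have hv'V : v' ∈ V := (v.toMul).2
    have h1 := hquad v' hv'V
    have hx : ((ρ a v).toMul : X) = a * v' * a⁻¹ := hρ a v
    have hsub : ∀ x y : Additive V, ((x - y).toMul : X) = (x.toMul : X) * (y.toMul : X)⁻¹ := by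
      intro x y
      rw [toMul_sub]
      show ((x.toMul / y.toMul : V) : X) = _
      rw [Subgroup.coe_div, div_eq_mul_inv]
    show (((ρ a (ρ a v - v) - (ρ a v - v)).toMul : V) : X) = ((0 : Additive V).toMul : V)
    rw [hsub, hρ, hsub, hx]
    have hzero : (((0 : Additive V).toMul : V) : X) = 1 := rfl
    rw [hzero, ← hv']
    have h3 : a * (a * v' * a⁻¹ * v'⁻¹) * a⁻¹ = a * v' * a⁻¹ * v'⁻¹ := by
      -- `a v a⁻¹ v⁻¹ = ⁅v, a⁆⁻¹` up to commutativity
      have h4 : a * v' * a⁻¹ * v'⁻¹ = ⁅v', a⁆⁻¹ := by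
        rw [commutatorElement_def]
        group
      rw [h4]
      have h5 : ∀ w : X, a * w⁻¹ * a⁻¹ = (a * w * a⁻¹)⁻¹ := fun w => by group
      rw [h5, h1]
    rw [h3]
    group
  have hnormal : ∀ j, 0 < j → j < p →
      Commute (ρ b) (ρ (a ^ j * b⁻¹ * (a ^ j)⁻¹)) ∧
      ∑ t ∈ Finset.range s, (ρ (b * (a ^ j * b⁻¹ * (a ^ j)⁻¹))) ^ t = 0 := by
    intro j hj0 hjp
    obtain ⟨m, hm1, hm2⟩ := hact j hj0 hjp
    have heq : ρ (a ^ j * b⁻¹ * (a ^ j)⁻¹) = ρ (b ^ m) := by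
      ext1 v
      apply Additive.toMul.injective
      apply Subtype.ext
      rw [hρ, hρ]
      exact hm1 _ (v.toMul).2
    constructor
    · rw [heq, map_pow]
      exact Commute.pow_right (Commute.refl _) m
    · rw [map_mul, heq, ← map_mul]
      have hb' : b * b ^ m = b ^ (m + 1) := by rw [pow_succ']
      rw [hb']
      apply norm_eq_zero_of_fpf
      · rw [← map_pow, ← pow_mul, mul_comm, pow_mul, hb, one_pow, map_one]
      · intro w hw
        apply Additive.toMul.injective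
        apply Subtype.ext
        have h1 : ((ρ (b ^ (m + 1)) w).toMul : X) = (w.toMul : X) := by rw [hw]
        rw [hρ] at h1
        exact hm2 _ (w.toMul).2 h1
  have hs0 := frobenius_ring_identity ρ a b s p hp0 hodd hq (fun j h1 h2 => (hnormal j h1 h2).1)
    (fun j h1 h2 => (hnormal j h1 h2).2)
  apply hV1
  rw [eq_bot_iff]
  intro v hv
  rw [Subgroup.mem_bot]
  have hvs : v ^ s = 1 := by
    have h1 : ((s : ℕ) : AddMonoid.End (Additive V)) (Additive.ofMul (⟨v, hv⟩ : V)) = 0 := by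
      rw [hs0]
      rfl
    rw [AddMonoid.End.natCast_apply] at h1
    have h2 := congrArg (fun x : Additive V => ((x.toMul : V) : X)) h1
    have h3 : ((s • Additive.ofMul (⟨v, hv⟩ : V)).toMul : X) = v ^ s := by
      rw [toMul_nsmul]
      rfl
    exact h3.symm.trans h2
  have hvp := hVp v hv
  have h1 : orderOf v ∣ s := orderOf_dvd_of_pow_eq_one hvs
  have h2 : orderOf v ∣ p := orderOf_dvd_of_pow_eq_one hvp
  have h3 := Nat.eq_one_of_dvd_coprimes hsp h1 h2
  exact orderOf_eq_one_iff.1 h3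

end QF

section ThreeStep

open Cfsg.Agent.Lib.Basic.PCore

variable {X : Type*} [Group X] [Finite X]

theorem mem_zpowers_of_cyclic {A : Subgroup X} (hA : IsCyclic A) {s : ℕ} (hs : s.Prime) {b c : X}
    (hb : b ∈ A) (hc : c ∈ A) (hb1 : b ≠ 1) (hbs : b ^ s = 1) (hcs : c ^ s = 1) :
    c ∈ Subgroup.zpowers b := by
  classical
  haveI : Fact s.Prime := ⟨hs⟩
  haveI : Fintype A := Fintype.ofFinite _
  set b' : A := ⟨b, hb⟩ with hb'
  set c' : A := ⟨c, hc⟩ with hc'
  have hb's : b' ^ s = 1 := Subtype.ext (by simpa [hb'] using hbs)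
  have hc's : c' ^ s = 1 := Subtype.ext (by simpa [hc'] using hcs)
  have hb'1 : b' ≠ 1 := fun h => hb1 (congrArg Subtype.val h)
  have hob : orderOf b' = s := orderOf_eq_prime hb's hb'1
  have hle := IsCyclic.card_pow_eq_one_le (α := A) (n := s) hs.pos
  have hsub : (Finset.univ.filter (fun x : A => x ∈ Subgroup.zpowers b')) ⊆
      Finset.univ.filter (fun x : A => x ^ s = 1) := by
    intro x hx
    simp only [Finset.mem_filter, Finset.mem_univ, true_and] at hx ⊢
    obtain ⟨k, rfl⟩ := hx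
    show (b' ^ k) ^ s = 1
    rw [← zpow_natCast, ← zpow_mul, mul_comm, zpow_mul, zpow_natCast, hb's, one_zpow]
  have hcard : (Finset.univ.filter (fun x : A => x ∈ Subgroup.zpowers b')).card = s := by
    rw [← hob, ← Nat.card_zpowers, Nat.card_eq_fintype_card, Fintype.card_subtype]
  have heq := Finset.eq_of_subset_of_card_le hsub (by rw [hcard]; exact hle)
  have hmem : c' ∈ Finset.univ.filter (fun x : A => x ^ s = 1) := by
    simp [hc's]
  rw [← heq] at hmem
  simp only [Finset.mem_filter, Finset.mem_univ, true_and] at hmem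
  obtain ⟨k, hk⟩ := hmem
  refine ⟨k, ?_⟩
  have := congrArg Subtype.val hk
  simpa using this

/-- In a three-step group a quadratic element lies in `O_p`: case of `a ^ p ∈ O_p`. -/
theorem quadratic_contra_threeStep {p : ℕ} [hpf : Fact p.Prime] (hodd : Odd p)
    (h3 : Cfsg.IsThreeStepGroup p X)
    (hpfree : ∀ y : X, (orderOf y).Coprime p → ∀ x ∈ pCore p X, x ≠ 1 → Commute y x → y = 1)
    {P : Subgroup X} [hPn : P.Normal] (hPp : IsPGroup p P) (hP1 : P ≠ ⊥)
    {a : X} (ha : a ^ p ∈ pCore p X) (hnot : a ∉ pCore p X)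
    (hquad : ∀ v ∈ P, a * ⁅v, a⁆ * a⁻¹ = ⁅v, a⁆) : False := by
  classical
  obtain ⟨hT1, A, hA1, hAcyc, hAodd, hAcop, hLn, hLtop, ⟨n, hn⟩, hfpf, hlast⟩ := h3
  have hpp : p.Prime := hpf.out
  set T : Subgroup X := pCore p X with hT
  haveI hTn : T.Normal := pCore_normal p X
  have hTp : IsPGroup p T := pCore_isPGroup p
  have hPT : P ≤ T := le_pCore hPn hPp
  haveI hCTn : (Subgroup.centralizer (T : Set X)).Normal := Subgroup.normal_centralizer
  -- the module
  have hcomm : ∀ v ∈ P, ∀ w ∈ Subgroup.centralizer (T : Set X), v * w = w * v := by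
    intro v hv w hw
    exact ((Subgroup.mem_centralizer_iff.1 hw) v (hPT hv))
  let V : Subgroup X :=
    { carrier := {v | v ∈ P ∧ v ∈ Subgroup.centralizer (T : Set X) ∧ v ^ p = 1}
      mul_mem' := by
        rintro v w ⟨hv1, hv2, hv3⟩ ⟨hw1, hw2, hw3⟩
        refine ⟨P.mul_mem hv1 hw1, Subgroup.mul_mem _ hv2 hw2, ?_⟩
        have hc : Commute v w := hcomm v hv1 w hw2
        rw [hc.mul_pow, hv3, hw3, one_mul]
      one_mem' := ⟨P.one_mem, Subgroup.one_mem _, one_pow _⟩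
      inv_mem' := by
        rintro v ⟨hv1, hv2, hv3⟩
        exact ⟨P.inv_mem hv1, Subgroup.inv_mem _ hv2, by rw [inv_pow, hv3, inv_one]⟩ }
  have hVmem : ∀ v, v ∈ V ↔ v ∈ P ∧ v ∈ Subgroup.centralizer (T : Set X) ∧ v ^ p = 1 :=
    fun v => Iff.rfl
  haveI hVn : V.Normal := by
    constructor
    rintro v ⟨hv1, hv2, hv3⟩ g
    refine ⟨hPn.conj_mem _ hv1 g, hCTn.conj_mem _ hv2 g, ?_⟩
    rw [conj_pow, hv3]
    simp
  have hVc : ∀ v ∈ V, ∀ w ∈ V, v * w = w * v := fun v hv w hw => hcomm v hv.1 w hw.2.1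
  have hVp : ∀ v ∈ V, v ^ p = 1 := fun v hv => hv.2.2
  have hVT : V ≤ T := fun v hv => hPT hv.1
  have hV1 : V ≠ ⊥ := by
    haveI : Group.IsNilpotent T := hTp.isNilpotent
    haveI hP'n : (P.subgroupOf T).Normal := inferInstance
    have hne : P.subgroupOf T ≠ ⊥ := by
      intro h
      apply hP1
      rw [eq_bot_iff]
      intro x hx
      have : (⟨x, hPT hx⟩ : T) ∈ P.subgroupOf T := hx
      rw [h, Subgroup.mem_bot] at this
      exact congrArg Subtype.val this
    have h1 := Cfsg.Agent.S0065.result (P.subgroupOf T) hne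
    obtain ⟨⟨x, hxT⟩, hx, hx1⟩ := (Subgroup.bot_or_exists_ne_one _).resolve_left h1
    have hxP : x ∈ P := hx.1
    have hxC : x ∈ Subgroup.centralizer (T : Set X) := by
      rw [Subgroup.mem_centralizer_iff]
      intro t ht
      have := Subgroup.mem_center_iff.1 hx.2 ⟨t, ht⟩
      exact congrArg Subtype.val this
    have hx1' : x ≠ 1 := fun h => hx1 (Subtype.ext h)
    obtain ⟨k, hk⟩ := exists_pow_eq_one_of_mem hPp hxP
    obtain ⟨j, -, hj⟩ := (Nat.dvd_prime_pow hpp).1 (orderOf_dvd_of_pow_eq_one hk)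
    have hj0 : j ≠ 0 := by
      rintro rfl
      rw [pow_zero] at hj
      exact hx1' (orderOf_eq_one_iff.1 hj)
    set y := x ^ p ^ (j - 1) with hy
    have hy1 : y ≠ 1 := by
      intro h
      have := orderOf_dvd_of_pow_eq_one h
      rw [hj] at this
      have h2 := (Nat.pow_dvd_pow_iff_le_right hpp.one_lt).1 this
      omega
    have hyp : y ^ p = 1 := by
      rw [hy, ← pow_mul, ← pow_succ, Nat.sub_add_cancel (Nat.pos_of_ne_zero hj0), ← hj,
        pow_orderOf_eq_one]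
    intro hbot
    have hyV : y ∈ V := ⟨P.pow_mem hxP _, Subgroup.pow_mem _ hxC _, hyp⟩
    rw [hbot, Subgroup.mem_bot] at hyV
    exact hy1 hyV
  -- the element `b`
  have hcardA : Nat.card A ≠ 1 := by
    intro h
    apply hA1
    exact Subgroup.eq_bot_of_card_eq A h
  obtain ⟨s, hs, hsd⟩ := Nat.exists_prime_and_dvd hcardA
  haveI : Fact s.Prime := ⟨hs⟩
  obtain ⟨b₀, hb₀⟩ := exists_prime_orderOf_dvd_card' s hsd
  set b : X := (b₀ : X) with hb
  have hbA : b ∈ A := b₀.2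
  have hob : orderOf b = s := by rw [hb, Subgroup.orderOf_coe, hb₀]
  have hbs : b ^ s = 1 := by rw [← hob, pow_orderOf_eq_one]
  have hb1 : b ≠ 1 := by
    intro h
    rw [h, orderOf_one] at hob
    exact hs.one_lt.ne hob
  have hsp : s.Coprime p := Nat.Coprime.coprime_dvd_left hsd hAcop
  have hAord : ∀ c ∈ A, (orderOf c).Coprime p := fun c hc =>
    Nat.Coprime.coprime_dvd_left (Subgroup.orderOf_dvd_natCard A hc) hAcop
  have hTA : T ⊓ A = ⊥ := by
    rw [eq_bot_iff]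
    rintro x ⟨hx1, hx2⟩
    rw [Subgroup.mem_bot]
    obtain ⟨k, hk⟩ := exists_pow_eq_one_of_mem hTp hx1
    have h1 := orderOf_dvd_of_pow_eq_one hk
    have h2 := Nat.Coprime.eq_one_of_dvd (Nat.Coprime.pow_right k (hAord x hx2)) h1
    exact orderOf_eq_one_iff.1 h2
  have hANT : A ≤ Subgroup.normalizer (T : Set X) := by
    rw [Subgroup.normalizer_eq_top_iff.2 hTn]
    exact le_top
  have hLmem : ∀ x, x ∈ T ⊔ A ↔ ∃ t ∈ T, ∃ c ∈ A, t * c = x :=
    fun x => Cfsg.Agent.Lib.Coprime.Coset.mem_sup_iff_of_le_normalizer hANT x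
  have hTL : T ≤ T ⊔ A := le_sup_left
  -- powers modulo `T`
  have hpowmod : ∀ (t c : X) (k : ℕ), t ∈ T → ∃ t' ∈ T, (t * c) ^ k = t' * c ^ k := by
    intro t c k ht
    induction k with
    | zero => exact ⟨1, T.one_mem, by simp⟩
    | succ k ih =>
      obtain ⟨t', ht', h⟩ := ih
      refine ⟨t' * (c ^ k * t * (c ^ k)⁻¹), T.mul_mem ht' (hTn.conj_mem _ ht _), ?_⟩
      rw [pow_succ, h, pow_succ]
      group
  -- `a ∉ L`
  have haL : a ∉ T ⊔ A := by
    intro h
    obtain ⟨t, ht, c, hc, rfl⟩ := (hLmem a).1 h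
    obtain ⟨t', ht', h1⟩ := hpowmod t c p ht
    have hcp : c ^ p ∈ T ⊓ A := by
      refine ⟨?_, A.pow_mem hc p⟩
      have : c ^ p = t'⁻¹ * (t * c) ^ p := by rw [h1]; group
      rw [this]
      exact T.mul_mem (T.inv_mem ht') ha
    rw [hTA, Subgroup.mem_bot] at hcp
    have h2 := Nat.Coprime.eq_one_of_dvd (hAord c hc) (orderOf_dvd_of_pow_eq_one hcp)
    have h3 : c = 1 := orderOf_eq_one_iff.1 h2
    apply hnot
    rw [h3, mul_one]
    exact ht
  have hajL : ∀ j, 0 < j → j < p → a ^ j ∉ T ⊔ A := by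
    intro j hj0 hjp h
    apply haL
    have hcop : Nat.Coprime j p := (Nat.coprime_comm.1 ((Nat.Prime.coprime_iff_not_dvd hpp).2
      (Nat.not_dvd_of_pos_of_lt hj0 hjp)))
    have hbez : (j : ℤ) * Nat.gcdA j p + (p : ℤ) * Nat.gcdB j p = 1 := by
      have := Nat.gcd_eq_gcd_ab j p
      rw [hcop] at this
      simpa using this.symm
    have h1 : a = (a ^ j) ^ (Nat.gcdA j p) * (a ^ p) ^ (Nat.gcdB j p) := by
      rw [← zpow_natCast, ← zpow_natCast, ← zpow_mul, ← zpow_mul, ← zpow_add, hbez, zpow_one]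
    rw [h1]
    exact Subgroup.mul_mem _ (Subgroup.zpow_mem _ h _) (Subgroup.zpow_mem _ (hTL ha) _)
  -- apply the abstract lemma
  refine quadratic_contra hpp hodd V hVc hVp hV1 hsp a b hbs (fun v hv => hquad v hv.1) ?_
  intro j hj0 hjp
  set x := a ^ j with hx
  have hxL := hajL j hj0 hjp
  set y := x * b⁻¹ * x⁻¹ with hy
  have hyL : y ∈ T ⊔ A := hLn.conj_mem _ ((le_sup_right : A ≤ T ⊔ A) (A.inv_mem hbA)) x
  obtain ⟨t, ht, c, hc, hyeq⟩ := (hLmem y).1 hyL
  have hys : y ^ s = 1 := by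
    rw [hy, conj_pow, inv_pow, hbs]
    simp
  have hcs : c ^ s = 1 := by
    obtain ⟨t', ht', h1⟩ := hpowmod t c s ht
    have h2 : c ^ s ∈ T ⊓ A := by
      refine ⟨?_, A.pow_mem hc s⟩
      have : c ^ s = t'⁻¹ * (t * c) ^ s := by rw [h1]; group
      rw [this, hyeq, hys, mul_one]
      exact T.inv_mem ht'
    rw [hTA, Subgroup.mem_bot] at h2
    exact h2
  have hcb : c ∈ Subgroup.zpowers b := mem_zpowers_of_cyclic hAcyc hs hbA hc hb1 hbs hcs
  obtain ⟨m, hm⟩ : ∃ m : ℕ, b ^ m = c := by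
    have h1 := (mem_powers_iff_mem_zpowers (x := b) (y := c)).2 hcb
    exact h1
  refine ⟨m, ?_, ?_⟩
  · intro v hv
    rw [← hyeq, hm]
    have h1 : c * v * c⁻¹ ∈ V := hVn.conj_mem v hv c
    have h2 : t * (c * v * c⁻¹) * t⁻¹ = c * v * c⁻¹ := by
      have := (Subgroup.mem_centralizer_iff.1 h1.2.1) t ht
      rw [this]
      group
    calc t * c * v * (t * c)⁻¹ = t * (c * v * c⁻¹) * t⁻¹ := by group
      _ = c * v * c⁻¹ := h2
  · intro v hv hvfix
    have hbm : b ^ (m + 1) ≠ 1 := by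
      intro h1
      apply hlast x hxL b⁻¹ (A.inv_mem hbA) (inv_ne_one.2 hb1)
      have h2 : x * b⁻¹ * x⁻¹ * (b⁻¹)⁻¹ = t := by
        rw [← hy, ← hyeq, ← hm, inv_inv, mul_assoc, ← pow_succ, h1, mul_one]
      rw [h2]
      exact ht
    by_contra hv1
    apply hbm
    refine hpfree _ (hAord _ (A.pow_mem hbA _)) v (hVT hv) hv1 ?_
    show b ^ (m + 1) * v = v * b ^ (m + 1)
    have := hvfix
    rw [mul_inv_eq_iff_eq_mul] at this
    exact this

/-- In a three-step group a `p`-subgroup acting quadratically on a nontrivial normal `p`-subgroup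
lies in `O_p`. -/
theorem le_pCore_of_quadratic {p : ℕ} [hpf : Fact p.Prime] (hodd : Odd p)
    (h3 : Cfsg.IsThreeStepGroup p X)
    (hpfree : ∀ y : X, (orderOf y).Coprime p → ∀ x ∈ pCore p X, x ≠ 1 → Commute y x → y = 1)
    {P A : Subgroup X} [hPn : P.Normal] (hPp : IsPGroup p P) (hP1 : P ≠ ⊥)
    (hAp : IsPGroup p A) (hquad : ⁅⁅P, A⁆, A⁆ = ⊥) : A ≤ pCore p X := by
  classical
  intro a ha
  by_contra hnot
  obtain ⟨k, hk⟩ := exists_pow_eq_one_of_mem hAp ha
  -- the last power of `a` outside of `O_p`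
  have hex : ∃ k : ℕ, a ^ p ^ k ∈ pCore p X := ⟨k, by rw [hk]; exact Subgroup.one_mem _⟩
  classical
  set e := Nat.find hex with he
  have he1 : a ^ p ^ e ∈ pCore p X := Nat.find_spec hex
  have he0 : e ≠ 0 := by
    intro h
    rw [h] at he1
    simp only [pow_zero, pow_one] at he1
    exact hnot he1
  have he2 : a ^ p ^ (e - 1) ∉ pCore p X := Nat.find_min hex (by omega)
  refine quadratic_contra_threeStep hodd h3 hpfree hPp hP1 (a := a ^ p ^ (e - 1)) ?_ he2 ?_
  · rw [← pow_mul, ← pow_succ, Nat.sub_add_cancel (Nat.pos_of_ne_zero he0)]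
    exact he1
  · intro v hv
    have hmem : a ^ p ^ (e - 1) ∈ A := A.pow_mem ha _
    have h1 : ⁅v, a ^ p ^ (e - 1)⁆ ∈ ⁅P, A⁆ := Subgroup.commutator_mem_commutator hv hmem
    have h2 : ⁅⁅v, a ^ p ^ (e - 1)⁆, a ^ p ^ (e - 1)⁆ ∈ ⁅⁅P, A⁆, A⁆ :=
      Subgroup.commutator_mem_commutator h1 hmem
    rw [hquad, Subgroup.mem_bot, commutatorElement_eq_one_iff_commute] at h2
    have h3 := h2.eq
    rw [mul_inv_eq_iff_eq_mul]
    exact h3.symm

end ThreeStep

section Composite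

open Cfsg.Agent.Lib.Basic.PCore

variable {H : Type*} [Group H] [Finite H]

theorem isPGroup_pCore_general (p : ℕ) : IsPGroup p (pCore p H) := by
  have h := Cfsg.Agent.Lib.Components.Transport.sSup_mem_of_sup_closed (G := H)
    (fun K => K.Normal ∧ IsPGroup p K) ⟨Subgroup.normal_bot, IsPGroup.of_bot⟩ (by
      rintro A B ⟨hA, hA'⟩ ⟨hB, hB'⟩
      haveI := hB
      exact ⟨Subgroup.sup_normal A B, hA'.to_sup_of_normal_right hB'⟩)
  exact h.2

/-- A prime divisor of the index of a normal subgroup gives an element of power order for this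
prime outside of the subgroup. -/
theorem exists_pelement_not_mem (L : Subgroup H) [hL : L.Normal] {q : ℕ} [hq : Fact q.Prime]
    (hqd : q ∣ L.index) : ∃ x : H, (∃ k : ℕ, x ^ q ^ k = 1) ∧ x ∉ L := by
  classical
  have hcard : q ∣ Nat.card (H ⧸ L) := by rwa [Subgroup.index_eq_card] at hqd
  obtain ⟨y, hy⟩ := exists_prime_orderOf_dvd_card' q hcard
  obtain ⟨x, rfl⟩ := QuotientGroup.mk'_surjective L y
  obtain ⟨x₁, x₂, hx, -, ⟨k, hk⟩, hx₁, hx₂⟩ := exists_parts x q
  refine ⟨x₁, hx₁, fun h => ?_⟩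
  have h1 : QuotientGroup.mk' L x₁ = 1 := (QuotientGroup.eq_one_iff _).2 h
  have h2 : QuotientGroup.mk' L x = QuotientGroup.mk' L x₂ := by
    rw [hx, map_mul, h1, one_mul]
  have h3 : QuotientGroup.mk' L x₂ = (QuotientGroup.mk' L x) ^ k := by
    rw [← map_zpow, ← hk]
  have h4 : (QuotientGroup.mk' L x₂) ^ q = 1 := by
    rw [h3, ← zpow_natCast, ← zpow_mul, mul_comm, zpow_mul, zpow_natCast, ← hy, pow_orderOf_eq_one,
      one_zpow]
  have h5 : orderOf (QuotientGroup.mk' L x₂) ∣ orderOf x₂ := orderOf_map_dvd _ _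
  have h6 : orderOf (QuotientGroup.mk' L x₂) ∣ q := orderOf_dvd_of_pow_eq_one h4
  have h7 := Nat.eq_one_of_dvd_coprimes hx₂ h5 h6
  rw [← h2, hy] at h7
  exact hq.out.one_lt.ne' h7

/-- A three-step group, for an arbitrary natural number `p`, has no nilpotent normal subgroup with
nilpotent quotient. -/
theorem not_threeStep_of_nil_nil {p : ℕ} (h3 : Cfsg.IsThreeStepGroup p H) (K : Subgroup H)
    [hK : K.Normal] (hKn : Group.IsNilpotent K) (hQn : Group.IsNilpotent (H ⧸ K)) : False := by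
  classical
  obtain ⟨hO1, A, hA1, hAcyc, hAodd, hAcop, hLn, hLtop, ⟨n, hn⟩, hfpf, hlast⟩ := h3
  set O : Subgroup H := pCore p H with hO
  haveI hOn : O.Normal := pCore_normal p H
  have hOp : IsPGroup p O := isPGroup_pCore_general p
  have hidx : (O ⊔ A).index ≠ 1 := by
    rw [Ne, Subgroup.index_eq_one]
    exact hLtop
  obtain ⟨q, hq, hqd⟩ := Nat.exists_prime_and_dvd hidx
  haveI hqf : Fact q.Prime := ⟨hq⟩
  have hqp : q ∣ p := by
    rw [hn] at hqd
    exact hq.dvd_of_dvd_pow hqd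
  obtain ⟨x₁, ⟨kx, hkx⟩, hx₁⟩ := exists_pelement_not_mem (O ⊔ A) hqd
  obtain ⟨a, ha, ha1⟩ := (Subgroup.bot_or_exists_ne_one A).resolve_left hA1
  have hqA : (Nat.card A).Coprime q := Nat.Coprime.coprime_dvd_right hqp hAcop
  set mkK : H →* H ⧸ K := QuotientGroup.mk' K with hmkK
  have hcomm : Commute (mkK x₁) (mkK a) := by
    apply commute_of_coprime_orderOf
    have h1 : orderOf (mkK x₁) ∣ q ^ kx :=
      orderOf_dvd_of_pow_eq_one (by rw [← map_pow, hkx, map_one])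
    have h2 : orderOf (mkK a) ∣ Nat.card A :=
      (orderOf_map_dvd _ _).trans (Subgroup.orderOf_dvd_natCard A ha)
    exact Nat.Coprime.coprime_dvd_left h1 (Nat.Coprime.coprime_dvd_right h2
      (Nat.Coprime.pow_left kx hqA.symm))
  set c : H := x₁ * a * x₁⁻¹ * a⁻¹ with hc
  have hcK : c ∈ K := by
    rw [← QuotientGroup.eq_one_iff (N := K)]
    show mkK c = 1
    rw [hc, map_mul, map_mul, map_mul, map_inv, map_inv, hcomm.eq]
    group
  have haL : a ∈ O ⊔ A := (le_sup_right : A ≤ O ⊔ A) ha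
  have hcL : c ∈ O ⊔ A := Subgroup.mul_mem _ (hLn.conj_mem a haL x₁) (Subgroup.inv_mem _ haL)
  have hcO : c ∉ O := hlast x₁ hx₁ a ha ha1
  have hANO : A ≤ Subgroup.normalizer (O : Set H) := by
    rw [Subgroup.normalizer_eq_top_iff.2 hOn]
    exact le_top
  have hLmem : ∀ x, x ∈ O ⊔ A ↔ ∃ t ∈ O, ∃ b ∈ A, t * b = x :=
    fun x => Cfsg.Agent.Lib.Coprime.Coset.mem_sup_iff_of_le_normalizer hANO x
  set mkO : H →* H ⧸ O := QuotientGroup.mk' O with hmkO
  have hmkO1 : ∀ u, mkO u = 1 ↔ u ∈ O := fun u => QuotientGroup.eq_one_iff u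
  have hordc : orderOf (mkO c) ≠ 1 := by
    rw [Ne, orderOf_eq_one_iff, hmkO1]
    exact hcO
  obtain ⟨r, hr, hrd⟩ := Nat.exists_prime_and_dvd hordc
  haveI hrf : Fact r.Prime := ⟨hr⟩
  have hrA : r ∣ Nat.card A := by
    obtain ⟨t, ht, b, hb, hbc⟩ := (hLmem c).1 hcL
    have h1 : mkO c = mkO b := by
      rw [← hbc, map_mul, (hmkO1 t).2 ht, one_mul]
    rw [h1] at hrd
    exact hrd.trans ((orderOf_map_dvd _ _).trans (Subgroup.orderOf_dvd_natCard A hb))
  have hrp : r.Coprime p := Nat.Coprime.coprime_dvd_left hrA hAcop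
  obtain ⟨c₁, c₂, hcc, hc₁, hc₂, ⟨kr, hkr⟩, hc₂r⟩ := exists_parts c r
  have hzK : Subgroup.zpowers c ≤ K := Subgroup.zpowers_le.2 hcK
  have hzL : Subgroup.zpowers c ≤ O ⊔ A := Subgroup.zpowers_le.2 hcL
  have hc₁K : c₁ ∈ K := hzK hc₁
  have hc₁L : c₁ ∈ O ⊔ A := hzL hc₁
  have hc₁O : c₁ ∉ O := by
    intro h
    have h1 : mkO c = mkO c₂ := by
      rw [hcc, map_mul, (hmkO1 c₁).2 h, one_mul]
    rw [h1] at hrd
    have h2 : r ∣ orderOf c₂ := hrd.trans (orderOf_map_dvd _ _)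
    have h3 := Nat.Coprime.eq_one_of_dvd hc₂r.symm h2
    exact hr.one_lt.ne' h3
  -- `c₁` centralizes `O`
  have hc₁C : ∀ o ∈ O, o * c₁ * o⁻¹ = c₁ := by
    intro o ho
    set c₃ := o * c₁ * o⁻¹ with hc₃
    set w := c₃ * c₁⁻¹ with hw
    have hwO : w ∈ O := by
      have : w = o * (c₁ * o⁻¹ * c₁⁻¹) := by rw [hw, hc₃]; group
      rw [this]
      exact O.mul_mem ho (hOn.conj_mem _ (O.inv_mem ho) c₁)
    have hc₃K : c₃ ∈ K := hK.conj_mem _ hc₁K o
    have hwK : w ∈ K := K.mul_mem hc₃K (K.inv_mem hc₁K)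
    obtain ⟨m, hm⟩ := exists_pow_eq_one_of_mem hOp hwO
    have hwcomm : Commute w c₁ := by
      have h1 : Commute (⟨w, hwK⟩ : K) (⟨c₁, hc₁K⟩ : K) := by
        apply commute_of_coprime_orderOf
        rw [Subgroup.orderOf_mk, Subgroup.orderOf_mk]
        exact Nat.Coprime.coprime_dvd_left (orderOf_dvd_of_pow_eq_one hm)
          (Nat.Coprime.coprime_dvd_right (orderOf_dvd_of_pow_eq_one hkr)
            (Nat.Coprime.pow m kr hrp.symm))
      exact congrArg Subtype.val h1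
    have hc₃eq : c₃ = w * c₁ := by rw [hw]; group
    have hwr : w ^ r ^ kr = 1 := by
      have h1 : c₃ ^ r ^ kr = 1 := by
        rw [hc₃, conj_pow, hkr]
        simp
      rw [hc₃eq, hwcomm.mul_pow, hkr, mul_one] at h1
      exact h1
    have hw1 : w = 1 := by
      have h1 := orderOf_dvd_of_pow_eq_one hm
      have h2 := orderOf_dvd_of_pow_eq_one hwr
      have h3 := Nat.eq_one_of_dvd_coprimes (Nat.Coprime.pow m kr hrp.symm) h1 h2
      exact orderOf_eq_one_iff.1 h3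
    rw [hc₃eq, hw1, one_mul]
  obtain ⟨o₂, ho₂, a₂, ha₂, hoa⟩ := (hLmem c₁).1 hc₁L
  have ha₂1 : a₂ ≠ 1 := by
    rintro rfl
    rw [mul_one] at hoa
    exact hc₁O (hoa ▸ ho₂)
  have ha₂act : ∀ o ∈ O, a₂ * o * a₂⁻¹ = o₂⁻¹ * o * o₂ := by
    intro o ho
    have h1 := hc₁C o ho
    have h2 : a₂ = o₂⁻¹ * c₁ := by rw [← hoa]; group
    rw [h2]
    have h3 : c₁ * o * c₁⁻¹ = o := by
      have : o * c₁ = c₁ * o := by rwa [mul_inv_eq_iff_eq_mul] at h1
      rw [← this]
      group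
    calc o₂⁻¹ * c₁ * o * (o₂⁻¹ * c₁)⁻¹ = o₂⁻¹ * (c₁ * o * c₁⁻¹) * o₂ := by group
      _ = o₂⁻¹ * o * o₂ := by rw [h3]
  have hpowact : ∀ (e : ℕ), ∀ o ∈ O, a₂ ^ e * o * (a₂ ^ e)⁻¹ = (o₂ ^ e)⁻¹ * o * o₂ ^ e := by
    intro e
    induction e with
    | zero => intro o _; simp
    | succ e ih =>
      intro o ho
      have h1 : o₂⁻¹ * o * o₂ ∈ O := by
        have := hOn.conj_mem o ho o₂⁻¹
        simpa using this
      rw [pow_succ a₂ e, pow_succ o₂ e]
      calc a₂ ^ e * a₂ * o * (a₂ ^ e * a₂)⁻¹ = a₂ ^ e * (a₂ * o * a₂⁻¹) * (a₂ ^ e)⁻¹ := by group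
        _ = a₂ ^ e * (o₂⁻¹ * o * o₂) * (a₂ ^ e)⁻¹ := by rw [ha₂act o ho]
        _ = (o₂ ^ e)⁻¹ * (o₂⁻¹ * o * o₂) * o₂ ^ e := ih _ h1
        _ = (o₂ ^ e * o₂)⁻¹ * o * (o₂ ^ e * o₂) := by group
  obtain ⟨m, hm⟩ := exists_pow_eq_one_of_mem hOp ho₂
  have hcen : ∀ o ∈ O, a₂ ^ p ^ m * o = o * a₂ ^ p ^ m := by
    intro o ho
    have h1 := hpowact (p ^ m) o ho
    rw [hm, inv_one, one_mul, mul_one, mul_inv_eq_iff_eq_mul] at h1
    exact h1
  have ha₂cop : (orderOf a₂).Coprime (p ^ m) :=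
    Nat.Coprime.pow_right m (Nat.Coprime.coprime_dvd_left (Subgroup.orderOf_dvd_natCard A ha₂) hAcop)
  have hbez : ((p ^ m : ℕ) : ℤ) * Nat.gcdA (p ^ m) (orderOf a₂)
      + ((orderOf a₂ : ℕ) : ℤ) * Nat.gcdB (p ^ m) (orderOf a₂) = 1 := by
    have := Nat.gcd_eq_gcd_ab (p ^ m) (orderOf a₂)
    rw [ha₂cop.symm] at this
    simpa using this.symm
  have ha₂eq : a₂ = (a₂ ^ p ^ m) ^ (Nat.gcdA (p ^ m) (orderOf a₂)) := by
    have h1 : a₂ = a₂ ^ (((p ^ m : ℕ) : ℤ) * Nat.gcdA (p ^ m) (orderOf a₂)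
        + ((orderOf a₂ : ℕ) : ℤ) * Nat.gcdB (p ^ m) (orderOf a₂)) := by
      rw [hbez, zpow_one]
    rw [zpow_add, zpow_mul a₂ ((orderOf a₂ : ℕ) : ℤ), zpow_natCast a₂ (orderOf a₂),
      pow_orderOf_eq_one, one_zpow, mul_one, zpow_mul, zpow_natCast] at h1
    exact h1
  apply hO1
  rw [eq_bot_iff, ← hfpf a₂ ha₂ ha₂1]
  intro o ho
  refine ⟨ho, ?_⟩
  show o ∈ Subgroup.centralizer ({a₂} : Set H)
  rw [Subgroup.mem_centralizer_singleton_iff]
  have h2 : a₂ ∈ Subgroup.centralizer ({o} : Set H) := by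
    rw [ha₂eq]
    apply Subgroup.zpow_mem
    rw [Subgroup.mem_centralizer_singleton_iff]
    exact hcen o ho
  exact (Subgroup.mem_centralizer_singleton_iff.1 h2).symm

/-- Reduction to prime `p`. -/
theorem exists_prime_threeStep [Group.IsSolvable H] (hCN : Cfsg.IsCNGroup H) {p : ℕ}
    (h3 : Cfsg.IsThreeStepGroup p H) : ∃ q : ℕ, q.Prime ∧ Cfsg.IsThreeStepGroup q H := by
  classical
  by_cases hnil : Group.IsNilpotent H
  · exfalso
    exact not_threeStep_of_nil_nil h3 ⊤ (Group.isNilpotent_top.2 hnil) inferInstance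
  by_cases h : ∃ (q : ℕ) (_ : Fact q.Prime) (P : Sylow q H), (P : Subgroup H) ≠ ⊥ ∧ (P : Subgroup H).Normal
  · exfalso
    obtain ⟨q, hq, P, hP1, hPn⟩ := h
    obtain ⟨-, -, -, hquot⟩ := Cfsg.Agent.S1474.result hCN hnil q P hP1 hPn
    exact not_threeStep_of_nil_nil h3 (Cfsg.fittingHall H)
      (Cfsg.Agent.Lib.Nilpotent.FittingHall.isNilpotent_fittingHall (M := H)) hquot
  · push Not at h
    haveI : Nontrivial H := by
      by_contra hnt
      rw [not_nontrivial_iff_subsingleton] at hnt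
      exact hnil inferInstance
    exact Cfsg.Agent.Lib.Nilpotent.CNSolvable.three_step_case hCN h

end Composite

end Cfsg.Agent.Lib.Nilpotent.CNThreeStep
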