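import Mathlib
import Cfsg.Agent.S1478
import Cfsg.Agent.Lib.Char.FrobeniusKernel
import Cfsg.Agent.Lib.Frobenius.Basic
import Cfsg.Agent.Lib.Nilpotent.CN

/-!
Maximal subgroups and maximal nilpotent subgroups of a minimal simple CN-group of odd order.
-/

set_option autoImplicit false
set_option linter.style.haveILetI false

namespace Cfsg.Agent.Lib.Nilpotent.CNMinimal

open Cfsg Cfsg.Agent.Lib.Basic.PCore Cfsg.Agent.Lib.Nilpotent.Parts Cfsg.Agent.Lib.Nilpotent.Elements
  Cfsg.Agent.S1473 Cfsg.Agent.Lib.Nilpotent.CNThreeStep Cfsg.Agent.Lib.Nilpotent.CNSolvable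
  Cfsg.Agent.S1478 Cfsg.Agent.Lib.Nilpotent.CN

open scoped Pointwise

variable {G : Type*} [Group G] [Finite G]

/-- The data of a Frobenius group `M = K E`. -/
structure FrobData (M K E : Subgroup G) : Prop where
  hKM : K ≤ M
  hEM : E ≤ M
  hinf : K ⊓ E = ⊥
  hprod : ∀ m ∈ M, ∃ k ∈ K, ∃ e ∈ E, m = k * e
  hnorm : M ≤ Subgroup.normalizer (K : Set G)
  hKnil : Group.IsNilpotent K
  hEnil : Group.IsNilpotent E
  hK1 : K ≠ ⊥
  hE1 : E ≠ ⊥
  hfpf : ∀ e ∈ E, e ≠ 1 → K ⊓ Subgroup.centralizer ({e} : Set G) = ⊥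

namespace FrobData

variable {M K E : Subgroup G} (hF : FrobData M K E)

include hF

theorem fix_eq_one {e : G} (he : e ∈ E) (he1 : e ≠ 1) {k : G} (hk : k ∈ K) (hc : e * k = k * e) : k = 1 := by
  have h : k ∈ K ⊓ Subgroup.centralizer ({e} : Set G) :=
    ⟨hk, Subgroup.mem_centralizer_singleton_iff.2 hc.symm⟩
  rw [hF.hfpf e he he1, Subgroup.mem_bot] at h
  exact h

/-- Every element outside of the kernel is conjugate to a nontrivial element of the complement. -/
theorem exists_conj {m : G} (hm : m ∈ M) (hmK : m ∉ K) :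
    ∃ k ∈ K, ∃ e ∈ E, e ≠ 1 ∧ m = k * e * k⁻¹ := by
  obtain ⟨k, hk, e, he, rfl⟩ := hF.hprod m hm
  have he1 : e ≠ 1 := by
    rintro rfl
    rw [mul_one] at hmK
    exact hmK hk
  obtain ⟨u, hu, h⟩ := Cfsg.Agent.Lib.Frobenius.Basic.exists_conj_coset_of_fpf' (hF.hnorm (hF.hEM he))
    (fun k' hk' hc => hF.fix_eq_one he he1 hk' hc) hk
  refine ⟨u⁻¹, K.inv_mem hu, e, he, he1, ?_⟩
  rw [← h, inv_inv]

/-- An element of `M` conjugating a nontrivial element of `E` into `E` lies in `E`. -/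
theorem mem_of_conj_mem {m e : G} (hm : m ∈ M) (he : e ∈ E) (he1 : e ≠ 1) (hme : m * e * m⁻¹ ∈ E) :
    m ∈ E := by
  obtain ⟨k, hk, e₁, he₁, rfl⟩ := hF.hprod m hm
  set e₂ := e₁ * e * e₁⁻¹ with he₂
  have he₂E : e₂ ∈ E := E.mul_mem (E.mul_mem he₁ he) (E.inv_mem he₁)
  have he₂1 : e₂ ≠ 1 := by
    intro h
    apply he1
    have : e = e₁⁻¹ * e₂ * e₁ := by rw [he₂]; group
    rw [this, h]
    group
  have h1 : k * e₂ * k⁻¹ ∈ E := by
    have : k * e₂ * k⁻¹ = k * e₁ * e * (k * e₁)⁻¹ := by rw [he₂]; group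
    rw [this]
    exact hme
  have h2 : e₂⁻¹ * (k * e₂ * k⁻¹) ∈ K ⊓ E := by
    refine ⟨?_, E.mul_mem (E.inv_mem he₂E) h1⟩
    have : e₂⁻¹ * (k * e₂ * k⁻¹) = (e₂⁻¹ * k * e₂) * k⁻¹ := by group
    rw [this]
    refine K.mul_mem ?_ (K.inv_mem hk)
    have hN := hF.hnorm (hF.hEM (E.inv_mem he₂E))
    have := (Subgroup.mem_normalizer_iff.1 hN k).1 hk
    simpa using this
  rw [hF.hinf, Subgroup.mem_bot] at h2
  have h3 : k * e₂ = e₂ * k := by
    have h4 : k * e₂ * k⁻¹ = e₂ := by
      have := h2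
      rw [inv_mul_eq_one] at this
      exact this.symm
    rwa [mul_inv_eq_iff_eq_mul] at h4
  have hk1 := hF.fix_eq_one he₂E he₂1 hk h3.symm
  rw [hk1, one_mul]
  exact he₁

/-- The centralizer in `M` of a nontrivial element of the kernel lies in the kernel. -/
theorem mem_of_commute {z m : G} (hz : z ∈ K) (hz1 : z ≠ 1) (hm : m ∈ M) (hc : m * z = z * m) : m ∈ K := by
  by_contra hmK
  obtain ⟨k, hk, e, he, he1, rfl⟩ := hF.exists_conj hm hmK
  have h1 : k⁻¹ * z * k = 1 := by
    apply hF.fix_eq_one he he1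
    · have := (Subgroup.mem_normalizer_iff.1 (hF.hnorm (hF.hKM (K.inv_mem hk))) z).1 hz
      simpa using this
    · have h2 : e * (k⁻¹ * z * k) = k⁻¹ * ((k * e * k⁻¹) * z) * k := by group
      rw [h2, hc]
      group
  apply hz1
  have : z = k * (k⁻¹ * z * k) * k⁻¹ := by group
  rw [this, h1]
  group

end FrobData

theorem not_nilpotent (hG : Cfsg.IsMinSimpleOddOrder G) : ¬ Group.IsNilpotent G := by
  intro h
  obtain ⟨-, hsimple, hnc, -⟩ := hG
  haveI := hsimple
  haveI := h
  have hc : Subgroup.center G ≠ ⊥ := by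
    have := Cfsg.Agent.S0065.result (⊤ : Subgroup G) top_ne_bot
    rwa [top_inf_eq] at this
  rcases hsimple.eq_bot_or_eq_top_of_normal (Subgroup.center G) inferInstance with h2 | h2
  · exact hc h2
  · apply hnc
    constructor
    constructor
    intro a b
    have ha : a ∈ Subgroup.center G := by rw [h2]; trivial
    exact (Subgroup.mem_center_iff.1 ha b).symm

/-- Sylow subgroups are TI. -/
theorem sylow_eq_of_inf_ne_bot (hG : Cfsg.IsMinSimpleOddOrder G) (hCN : Cfsg.IsCNGroup G) {p : ℕ}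
    [hpf : Fact p.Prime] (S S' : Sylow p G) (h : (S : Subgroup G) ⊓ (S' : Subgroup G) ≠ ⊥) : S = S' := by
  classical
  have hcard : ∀ A B : Sylow p G, Nat.card (A : Subgroup G) = Nat.card (B : Subgroup G) := by
    intro A B
    rw [Sylow.card_eq_multiplicity, Sylow.card_eq_multiplicity]
  induction hn : Nat.card (S : Subgroup G) - Nat.card ((S : Subgroup G) ⊓ (S' : Subgroup G) : Subgroup G)
    using Nat.strong_induction_on generalizing S S' with
  | _ n ih =>
    set D : Subgroup G := (S : Subgroup G) ⊓ (S' : Subgroup G) with hD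
    by_cases hDS : D = (S : Subgroup G)
    · have hle : (S : Subgroup G) ≤ S' := le_trans (le_of_eq hDS.symm) inf_le_right
      exact Sylow.ext (S.3 S'.2 hle).symm
    by_cases hDS' : D = (S' : Subgroup G)
    · have hle : (S' : Subgroup G) ≤ S := le_trans (le_of_eq hDS'.symm) inf_le_left
      exact Sylow.ext (S'.3 S.2 hle)
    have hDlt : D < (S : Subgroup G) := lt_of_le_of_ne inf_le_left hDS
    have hDlt' : D < (S' : Subgroup G) := lt_of_le_of_ne inf_le_right hDS'
    set R : Subgroup G := (S : Subgroup G) ⊓ Subgroup.normalizer (D : Set G) with hR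
    set R' : Subgroup G := (S' : Subgroup G) ⊓ Subgroup.normalizer (D : Set G) with hR'
    have hDR : D < R := Cfsg.Agent.Lib.Transfer.Frobenius.lt_inf_normalizer S.2 hDlt
    have hDR' : D < R' := Cfsg.Agent.Lib.Transfer.Frobenius.lt_inf_normalizer S'.2 hDlt'
    have hDp : IsPGroup p D := S.2.to_le inf_le_left
    set X : Subgroup G := Subgroup.normalizer (D : Set G) with hX
    haveI hXs : Group.IsSolvable X := hG.2.2.2 X (normalizer_ne_top hG hDp h)
    have hXcn := cn_subgroup hCN X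
    have hcore : pCore p X ≠ ⊥ := by
      obtain ⟨t, ht, ht1⟩ := (Subgroup.bot_or_exists_ne_one D).resolve_left h
      have htX : t ∈ X := Subgroup.le_normalizer ht
      have ht₀ : (⟨t, htX⟩ : X) ∈ D.subgroupOf X := ht
      have := subgroupOf_le_pCore (Q := D) (X := X) le_rfl hDp ht₀
      intro h
      rw [h, Subgroup.mem_bot] at this
      exact ht1 (congrArg Subtype.val this)
    have hex : ∃ P : Sylow p X, (P : Subgroup X).Normal := by
      by_contra hno
      push Not at hno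
      exact Cfsg.Agent.S1478.result hG hCN X p (three_step_of_pCore hXcn hcore hno).1
    obtain ⟨P, hPn⟩ := hex
    set Q : Subgroup G := (P : Subgroup X).map X.subtype with hQ
    have hQp : IsPGroup p Q := P.2.map _
    have hleQ : ∀ (T : Sylow p G), (T : Subgroup G) ⊓ X ≤ Q := by
      intro T r hr
      obtain ⟨k, hk⟩ := exists_pow_eq_one_of_mem T.2 hr.1
      refine ⟨⟨r, hr.2⟩, mem_sylow_of_normal P hPn (k := k) (Subtype.ext hk), rfl⟩
    obtain ⟨S₁, hS₁⟩ := hQp.exists_le_sylow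
    have hRS₁ : R ≤ S₁ := (hleQ S).trans hS₁
    have hRS₁' : R' ≤ S₁ := (hleQ S').trans hS₁
    have hrec : ∀ T : Sylow p G, (T : Subgroup G) ⊓ X ≤ S₁ → D < (T : Subgroup G) ⊓ X →
        D ≤ (T : Subgroup G) → T = S₁ := by
      intro T hT hDT hDT'
      have hle : (T : Subgroup G) ⊓ X ≤ (T : Subgroup G) ⊓ S₁ := le_inf inf_le_left hT
      have hne : (T : Subgroup G) ⊓ (S₁ : Subgroup G) ≠ ⊥ := by
        intro hbot
        rw [hbot, le_bot_iff] at hle
        rw [hle] at hDT
        exact not_lt_bot hDT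
      have hc1 : Nat.card D < Nat.card ((T : Subgroup G) ⊓ X : Subgroup G) :=
        Cfsg.Agent.Lib.Transfer.Frobenius.card_lt_of_lt hDT
      have hc2 : Nat.card ((T : Subgroup G) ⊓ X : Subgroup G) ≤ Nat.card ((T : Subgroup G) ⊓ S₁ : Subgroup G) :=
        Subgroup.card_le_of_le hle
      have hc3 : Nat.card ((T : Subgroup G) ⊓ S₁ : Subgroup G) ≤ Nat.card (T : Subgroup G) :=
        Subgroup.card_le_of_le inf_le_left
      have hc4 : Nat.card D < Nat.card (S : Subgroup G) := Cfsg.Agent.Lib.Transfer.Frobenius.card_lt_of_lt hDlt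
      have hc5 := hcard T S
      exact ih _ (by omega) T S₁ hne rfl
    have h1 : S = S₁ := hrec S hRS₁ hDR inf_le_left
    have h2 : S' = S₁ := hrec S' hRS₁' hDR' inf_le_right
    rw [h1, h2]

section minimal

variable (hG : Cfsg.IsMinSimpleOddOrder G) (hCN : Cfsg.IsCNGroup G)

include hG hCN in
/-- Maximal nilpotent subgroups are TI. -/
theorem maxNil_TI {H : Subgroup G} (hH : Group.IsNilpotent H)
    (hmax : ∀ L : Subgroup G, Group.IsNilpotent L → H ≤ L → L = H) (g : G)
    (hne : H.map (MulAut.conj g).toMonoidHom ≠ H) : H ⊓ H.map (MulAut.conj g).toMonoidHom = ⊥ := by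
  classical
  by_cases h1 : Nat.card H = 1
  · rw [Subgroup.eq_bot_of_card_eq H h1, bot_inf_eq]
  by_cases hpp : IsPrimePow (Nat.card H)
  · obtain ⟨p, k, hp, hk, hcard⟩ := hpp
    have hp' : p.Prime := hp.nat_prime
    haveI : Fact p.Prime := ⟨hp'⟩
    have hHp : IsPGroup p H := IsPGroup.of_card hcard.symm
    have hcop := coprime_card_index hCN hH hmax
    have hnd : ¬ p ∣ H.index := by
      intro hd
      have h2 : p ∣ Nat.card H := by
        rw [← hcard]
        exact dvd_pow_self p hk.ne'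
      exact hp'.one_lt.ne' (Nat.eq_one_of_dvd_coprimes hcop h2 hd)
    set S : Sylow p G := hHp.toSylow hnd with hS
    have hSH : (S : Subgroup G) = H := hHp.toSylow_coe hnd
    by_contra hbot
    have h2 : S = g • S := by
      apply sylow_eq_of_inf_ne_bot hG hCN
      rw [coe_smul_sylow, hSH]
      exact hbot
    apply hne
    have h3 : ((g • S : Sylow p G) : Subgroup G) = (S : Subgroup G) := by rw [← h2]
    rw [coe_smul_sylow, hSH] at h3
    exact h3
  · exact map_conj_eq_of_not_isPrimePow hCN hH hmax hpp h1 g hne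

include hG in
/-- A self-normalizing TI subgroup does not exist. -/
theorem no_selfNormalizing_TI {H : Subgroup G} (hH1 : H ≠ ⊥) (hH2 : H ≠ ⊤)
    (hTI : ∀ g : G, H.map (MulAut.conj g).toMonoidHom ≠ H → H ⊓ H.map (MulAut.conj g).toMonoidHom = ⊥)
    (hN : Subgroup.normalizer (H : Set G) ≤ H) : False := by
  classical
  have hF : Cfsg.IsFrobeniusComplement H := by
    refine ⟨hH1, hH2, fun g hg => ?_⟩
    have h1 : MulAut.conj g • H = H.map (MulAut.conj g).toMonoidHom := rfl
    rw [h1]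
    apply hTI
    intro h2
    apply hg
    apply hN
    apply Cfsg.Agent.Lib.Coprime.Three.mem_normalizer_of_conj_mem
    intro h hh
    rw [← h2]
    exact ⟨h, hh, rfl⟩
  obtain ⟨N, -, hNn, hcompl⟩ := Cfsg.Agent.Lib.Char.FrobeniusKernel.frobenius_theorem H hF
  have hcard := hcompl.card_mul_card
  rcases hG.2.1.eq_bot_or_eq_top_of_normal N hNn with h | h
  · rw [h, Subgroup.card_bot, one_mul] at hcard
    exact hH2 (Subgroup.eq_top_of_card_eq H hcard)
  · rw [h, Subgroup.card_top, Nat.mul_eq_left Nat.card_pos.ne'] at hcard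
    exact hH1 (Subgroup.eq_bot_of_card_eq H hcard)

include hG in
theorem maxNil_ne_top {H : Subgroup G} (hH : Group.IsNilpotent H) : H ≠ ⊤ := by
  rintro rfl
  exact not_nilpotent hG (Group.isNilpotent_top.1 hH)

include hG in
theorem maxNil_ne_bot {H : Subgroup G}
    (hmax : ∀ L : Subgroup G, Group.IsNilpotent L → H ≤ L → L = H) : H ≠ ⊥ := by
  rintro rfl
  haveI := hG.2.1
  obtain ⟨x, hx⟩ := exists_ne (1 : G)
  have hnil : Group.IsNilpotent (Subgroup.zpowers x) := by
    letI := IsCyclic.commGroup (α := Subgroup.zpowers x)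
    exact CommGroup.isNilpotent
  have h1 := hmax _ hnil bot_le
  have h2 : x ∈ (⊥ : Subgroup G) := by
    rw [← h1]
    exact Subgroup.mem_zpowers x
  exact hx (Subgroup.mem_bot.1 h2)

include hG in
theorem normalizer_ne_top_of_ne {H : Subgroup G} (hH1 : H ≠ ⊥) (hH2 : H ≠ ⊤) :
    Subgroup.normalizer (H : Set G) ≠ ⊤ := by
  intro h
  rcases hG.2.1.eq_bot_or_eq_top_of_normal H (Subgroup.normalizer_eq_top_iff.1 h) with h1 | h1
  · exact hH1 h1
  · exact hH2 h1

include hG hCN in
/-- A maximal nilpotent subgroup contained in `M` with `N(H) ≤ M` is the kernel of `M`. -/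
theorem eq_kernel {M K E H : Subgroup G} (hF : FrobData M K E) (hH : Group.IsNilpotent H)
    (hmax : ∀ L : Subgroup G, Group.IsNilpotent L → H ≤ L → L = H)
    (hNM : Subgroup.normalizer (H : Set G) ≤ M) : H = K ∧ Subgroup.normalizer (H : Set G) = M := by
  classical
  have hH1 := maxNil_ne_bot hG hmax
  have hH2 := maxNil_ne_top hG hH
  have hHM : H ≤ M := Subgroup.le_normalizer.trans hNM
  have hinf := inf_centralizer_ne_bot hH hH1
  obtain ⟨z, hz, hz1⟩ := (Subgroup.bot_or_exists_ne_one _).resolve_left hinf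
  have hzH : z ∈ H := hz.1
  have hzc : ∀ h ∈ H, h * z = z * h := fun h hh => Subgroup.mem_centralizer_iff.1 hz.2 h hh
  by_cases hzK : z ∈ K
  · have hle : H ≤ K := fun h hh => hF.mem_of_commute hzK hz1 (hHM hh) (hzc h hh)
    have hKH : K = H := hmax K hF.hKnil hle
    refine ⟨hKH.symm, le_antisymm hNM ?_⟩
    rw [← hKH]
    exact hF.hnorm
  · exfalso
    obtain ⟨k, hk, e, he, he1, hzeq⟩ := hF.exists_conj (hHM hzH) hzK
    have hkM : k ∈ M := hF.hKM hk
    have hle : H ≤ E.map (MulAut.conj k).toMonoidHom := by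
      intro h hh
      have h1 : k⁻¹ * h * k ∈ E := by
        apply hF.mem_of_conj_mem (M.mul_mem (M.mul_mem (M.inv_mem hkM) (hHM hh)) hkM) he he1
        have h2 : k⁻¹ * h * k * e * (k⁻¹ * h * k)⁻¹ = k⁻¹ * (h * (k * e * k⁻¹) * h⁻¹) * k := by group
        rw [h2, ← hzeq]
        have h3 : h * z * h⁻¹ = z := by
          rw [hzc h hh]
          group
        rw [h3, hzeq]
        have : k⁻¹ * (k * e * k⁻¹) * k = e := by group
        rw [this]
        exact he
      refine ⟨_, h1, ?_⟩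
      show k * (k⁻¹ * h * k) * k⁻¹ = h
      group
    have hEk : E.map (MulAut.conj k).toMonoidHom = H := hmax _ (isNilpotent_map_conj hF.hEnil k) hle
    have hTI := maxNil_TI hG hCN hH hmax
    apply no_selfNormalizing_TI hG hH1 hH2 hTI
    intro m hm
    have hmM := hNM hm
    have h1 : k⁻¹ * m * k ∈ E := by
      apply hF.mem_of_conj_mem (M.mul_mem (M.mul_mem (M.inv_mem hkM) hmM) hkM) he he1
      have h2 : k * e * k⁻¹ ∈ H := by
        rw [← hEk]
        exact ⟨e, he, rfl⟩
      have h3 := (Subgroup.mem_normalizer_iff.1 hm _).1 h2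
      rw [← hEk] at h3
      obtain ⟨e', he', he'2⟩ := h3
      have he'3 : k * e' * k⁻¹ = m * (k * e * k⁻¹) * m⁻¹ := he'2
      have h4 : k⁻¹ * m * k * e * (k⁻¹ * m * k)⁻¹ = k⁻¹ * (m * (k * e * k⁻¹) * m⁻¹) * k := by group
      rw [h4, ← he'3]
      have : k⁻¹ * (k * e' * k⁻¹) * k = e' := by group
      rw [this]
      exact he'
    rw [← hEk]
    refine ⟨_, h1, ?_⟩
    show k * (k⁻¹ * m * k) * k⁻¹ = m
    group

include hG hCN in
/-- Coatoms are Frobenius groups. -/
theorem exists_frobData {M : Subgroup G} (hM : IsCoatom M) :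
    ∃ E : Subgroup G, FrobData M (Cfsg.fittingHallOf M) E := by
  classical
  have hMtop : M ≠ ⊤ := hM.1
  haveI hMs : Group.IsSolvable M := hG.2.2.2 M hMtop
  have hMcn := cn_subgroup hCN M
  haveI := hG.2.1
  have hM1 : M ≠ ⊥ := by
    rintro rfl
    -- all proper subgroups are trivial: `G` is cyclic
    obtain ⟨x, hx⟩ := exists_ne (1 : G)
    have h1 : Subgroup.zpowers x = ⊤ := by
      by_contra hne
      have h2 := hM.2 (Subgroup.zpowers x) (by
        rw [bot_lt_iff_ne_bot, Ne, Subgroup.zpowers_eq_bot]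
        exact hx)
      exact hne h2
    haveI : IsCyclic G := ⟨⟨x, fun y => by
      have : y ∈ Subgroup.zpowers x := by rw [h1]; trivial
      exact this⟩⟩
    exact hG.2.2.1 IsCyclic.commutative
  have hMnn : ¬ Group.IsNilpotent M := by
    intro hnil
    have hmax : ∀ L : Subgroup G, Group.IsNilpotent L → M ≤ L → L = M := by
      intro L hL hle
      by_contra hne
      have hlt : M < L := lt_of_le_of_ne hle (Ne.symm hne)
      exact maxNil_ne_top hG hL (hM.2 L hlt)
    have hN : Subgroup.normalizer (M : Set G) ≤ M := by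
      by_contra hnot
      have hlt : M < Subgroup.normalizer (M : Set G) :=
        lt_of_le_of_ne Subgroup.le_normalizer (fun h => hnot (le_of_eq h.symm))
      exact normalizer_ne_top_of_ne hG hM1 hMtop (hM.2 _ hlt)
    exact no_selfNormalizing_TI hG hM1 hMtop (maxNil_TI hG hCN hnil hmax) hN
  haveI hMnt : Nontrivial M := (Subgroup.nontrivial_iff_ne_bot M).2 hM1
  have hex : ∃ (p : ℕ) (_ : Fact p.Prime) (P : Sylow p M), (P : Subgroup M) ≠ ⊥ ∧ (P : Subgroup M).Normal := by
    by_contra hno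
    push Not at hno
    obtain ⟨p, -, h3⟩ := three_step_case hMcn hno
    exact Cfsg.Agent.S1478.result hG hCN M p h3
  obtain ⟨p, hpf, P, hP1, hPn⟩ := hex
  obtain ⟨hF1, -, ⟨E', hE', hFrob, hfpf⟩, hquot⟩ := Cfsg.Agent.S1474.result hMcn hMnn p P hP1 hPn
  set K' : Subgroup M := Cfsg.fittingHall M with hK'
  refine ⟨E'.map M.subtype, ?_⟩
  have hKdef : Cfsg.fittingHallOf M = K'.map M.subtype := rfl
  have hEnil' : Group.IsNilpotent E' := by
    haveI := hquot
    let f : E' →* M ⧸ K' := (QuotientGroup.mk' K').comp E'.subtype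
    have hf : Function.Injective f := by
      rw [injective_iff_map_eq_one]
      intro a ha
      have h1 : (a : M) ∈ K' := (QuotientGroup.eq_one_iff _).1 ha
      have h2 : Disjoint K' E' := hE'.disjoint
      rw [Subgroup.disjoint_def] at h2
      exact Subtype.ext (h2 h1 a.2)
    exact Group.nilpotent_of_mulEquiv (MonoidHom.ofInjective hf).symm
  constructor
  · rw [hKdef]
    exact Subgroup.map_subtype_le _
  · exact Subgroup.map_subtype_le _
  · rw [hKdef, ← Subgroup.map_inf _ _ _ M.subtype_injective, hE'.disjoint.eq_bot, Subgroup.map_bot]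
  · intro m hm
    obtain ⟨⟨k, e⟩, hke⟩ := hE'.2 (⟨m, hm⟩ : M)
    refine ⟨_, ⟨k, k.2, rfl⟩, _, ⟨e, e.2, rfl⟩, ?_⟩
    have := congrArg Subtype.val hke
    exact this.symm
  · rw [hKdef]
    exact le_normalizer_map K'
  · rw [hKdef]
    exact Cfsg.Agent.Lib.Basic.PCore.isNilpotent_map
      (Cfsg.Agent.Lib.Nilpotent.FittingHall.isNilpotent_fittingHall (M := M)) _
  · exact Cfsg.Agent.Lib.Basic.PCore.isNilpotent_map hEnil' _
  · rw [hKdef, Ne, Subgroup.map_eq_bot_iff_of_injective _ M.subtype_injective]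
    exact hF1
  · rw [Ne, Subgroup.map_eq_bot_iff_of_injective _ M.subtype_injective]
    exact hFrob.1
  · rintro _ ⟨e, he, rfl⟩ he1
    rw [eq_bot_iff, hKdef]
    rintro _ ⟨⟨x, hx, rfl⟩, hxc⟩
    have he1' : e ≠ 1 := fun h => he1 (by rw [h]; rfl)
    have h1 : x ∈ K' ⊓ Subgroup.centralizer ({e} : Set M) := by
      refine ⟨hx, ?_⟩
      show x ∈ Subgroup.centralizer ({e} : Set M)
      rw [Subgroup.mem_centralizer_singleton_iff]
      have h2 := Subgroup.mem_centralizer_singleton_iff.1 hxc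
      exact Subtype.ext h2
    rw [hfpf e he he1', Subgroup.mem_bot] at h1
    rw [h1]
    exact Subgroup.one_mem _

/-- Every nilpotent subgroup lies in a maximal nilpotent one. -/
theorem exists_maxNil_ge {L : Subgroup G} (hL : Group.IsNilpotent L) :
    ∃ H : Subgroup G, L ≤ H ∧ Group.IsNilpotent H ∧
      ∀ L' : Subgroup G, Group.IsNilpotent L' → H ≤ L' → L' = H := by
  obtain ⟨H, hH⟩ := Set.Finite.exists_le_maximal (Set.toFinite {K : Subgroup G | Group.IsNilpotent K})
    (show L ∈ {K : Subgroup G | Group.IsNilpotent K} from hL)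
  refine ⟨H, hH.1, hH.2.prop, fun L' hL' hle => le_antisymm (hH.2.le_of_ge hL' hle) hle⟩

end minimal

section minimal2

variable (hG : Cfsg.IsMinSimpleOddOrder G) (hCN : Cfsg.IsCNGroup G)

include hG hCN in
/-- Centralizers in maximal nilpotent subgroups. -/
theorem maxNil_centralizer_le {H : Subgroup G} (hH : Group.IsNilpotent H)
    (hmax : ∀ L : Subgroup G, Group.IsNilpotent L → H ≤ L → L = H) {x : G} (hx : x ∈ H) (hx1 : x ≠ 1) :
    Subgroup.centralizer ({x} : Set G) ≤ H :=
  centralizer_le_of_TI hCN hH hmax (maxNil_TI hG hCN hH hmax) hx hx1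

include hG hCN in
/-- Two maximal nilpotent subgroups with nontrivial intersection are equal. -/
theorem maxNil_eq_of_inf_ne_bot {H₁ H₂ : Subgroup G} (hH₁ : Group.IsNilpotent H₁)
    (hmax₁ : ∀ L : Subgroup G, Group.IsNilpotent L → H₁ ≤ L → L = H₁)
    (hH₂ : Group.IsNilpotent H₂)
    (hmax₂ : ∀ L : Subgroup G, Group.IsNilpotent L → H₂ ≤ L → L = H₂)
    (hne : H₁ ⊓ H₂ ≠ ⊥) : H₁ = H₂ := by
  classical
  obtain ⟨x, hx, hx1⟩ := (Subgroup.bot_or_exists_ne_one _).resolve_left hne
  have hH₁1 := maxNil_ne_bot hG hmax₁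
  obtain ⟨z, hz, hz1⟩ := (Subgroup.bot_or_exists_ne_one _).resolve_left (inf_centralizer_ne_bot hH₁ hH₁1)
  have hzc : ∀ h ∈ H₁, h * z = z * h := fun h hh => Subgroup.mem_centralizer_iff.1 hz.2 h hh
  have hzH₂ : z ∈ H₂ := by
    apply maxNil_centralizer_le hG hCN hH₂ hmax₂ hx.2 hx1
    rw [Subgroup.mem_centralizer_singleton_iff]
    exact (hzc x hx.1).symm
  have hle : H₁ ≤ H₂ := by
    intro h hh
    apply maxNil_centralizer_le hG hCN hH₂ hmax₂ hzH₂ hz1
    rw [Subgroup.mem_centralizer_singleton_iff]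
    exact hzc h hh
  exact (hmax₁ H₂ hH₂ hle).symm

include hG hCN in
/-- Two maximal nilpotent subgroups with orders which are not coprime are conjugate. -/
theorem maxNil_conj_of_prime_dvd {H₁ H₂ : Subgroup G} (hH₁ : Group.IsNilpotent H₁)
    (hmax₁ : ∀ L : Subgroup G, Group.IsNilpotent L → H₁ ≤ L → L = H₁)
    (hH₂ : Group.IsNilpotent H₂)
    (hmax₂ : ∀ L : Subgroup G, Group.IsNilpotent L → H₂ ≤ L → L = H₂)
    {p : ℕ} [hpf : Fact p.Prime] (h₁ : p ∣ Nat.card H₁) (h₂ : p ∣ Nat.card H₂) :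
    ∃ g : G, H₂ = H₁.map (MulAut.conj g).toMonoidHom := by
  classical
  obtain ⟨P₁, hP₁⟩ := exists_sylow_le hCN hH₁ hmax₁ h₁
  obtain ⟨P₂, hP₂⟩ := exists_sylow_le hCN hH₂ hmax₂ h₂
  obtain ⟨g, hg⟩ := MulAction.exists_smul_eq G P₁ P₂
  refine ⟨g, ?_⟩
  have hle : (P₂ : Subgroup G) ≤ H₁.map (MulAut.conj g).toMonoidHom := by
    rw [← hg, coe_smul_sylow]
    exact Subgroup.map_mono hP₁
  have hdvd : p ∣ Nat.card G := h₂.trans (Subgroup.card_subgroup_dvd_card H₂)
  have hP₂1 : (P₂ : Subgroup G) ≠ ⊥ := P₂.ne_bot_of_dvd_card hdvd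
  have hne : H₁.map (MulAut.conj g).toMonoidHom ⊓ H₂ ≠ ⊥ := by
    intro h
    apply hP₂1
    rw [← le_bot_iff, ← h]
    exact le_inf hle hP₂
  exact (maxNil_eq_of_inf_ne_bot hG hCN (isNilpotent_map_conj hH₁ g) (maximal_map_conj hmax₁ g) hH₂ hmax₂ hne).symm

include hG hCN in
/-- The kernel of a maximal subgroup is maximal nilpotent. -/
theorem kernel_maxNil {M K E : Subgroup G} (hM : IsCoatom M) (hF : FrobData M K E) :
    ∀ L : Subgroup G, Group.IsNilpotent L → K ≤ L → L = K := by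
  classical
  intro L hL hKL
  obtain ⟨L', hLL', hL'nil, hL'max⟩ := exists_maxNil_ge hL
  have hKL' : K ≤ L' := hKL.trans hLL'
  have hML : M ≤ Subgroup.normalizer (L' : Set G) := by
    intro m hm
    have heq : L'.map (MulAut.conj m).toMonoidHom = L' := by
      by_contra hne
      have hbot := maxNil_TI hG hCN hL'nil hL'max m hne
      apply hF.hK1
      rw [← le_bot_iff, ← hbot]
      refine le_inf hKL' ?_
      intro k hk
      refine ⟨m⁻¹ * k * m, hKL' ?_, ?_⟩
      · have := (Subgroup.mem_normalizer_iff.1 (hF.hnorm (M.inv_mem hm)) k).1 hk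
        simpa using this
      · show m * (m⁻¹ * k * m) * m⁻¹ = k
        group
    apply Cfsg.Agent.Lib.Coprime.Three.mem_normalizer_of_conj_mem
    intro x hx
    rw [← heq]
    exact ⟨x, hx, rfl⟩
  have hL'1 := maxNil_ne_bot hG hL'max
  have hL'2 := maxNil_ne_top hG hL'nil
  have hNtop := normalizer_ne_top_of_ne hG hL'1 hL'2
  have hMeq : Subgroup.normalizer (L' : Set G) ≤ M := by
    by_contra hnot
    have hlt : M < Subgroup.normalizer (L' : Set G) := lt_of_le_of_ne hML (fun h => hnot (le_of_eq h.symm))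
    exact hNtop (hM.2 _ hlt)
  obtain ⟨h1, -⟩ := eq_kernel hG hCN hF hL'nil hL'max hMeq
  have hLK : L ≤ K := by
    rw [← h1]
    exact hLL'
  exact le_antisymm hLK hKL

end minimal2

end Cfsg.Agent.Lib.Nilpotent.CNMinimal
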