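import Mathlib
import Cfsg.Prelude.Def_Transfer
import Cfsg.Agent.Lib.Transfer.Frobenius
import Cfsg.Agent.Lib.Transfer.Basic

/-!
# Counting conjugacy classes of `p`-elements

`kP p G` counts the conjugacy classes of `p`-elements.  If `kP` is large compared with a Sylow
`p`-subgroup then the Sylow subgroup is abelian and `G` has a normal `p`-complement.
-/

set_option autoImplicit false

namespace Cfsg.Agent.Lib.Nilpotent.PClasses

open scoped Pointwise

universe u

variable {G : Type u} [Group G]

/-- Number of conjugacy classes consisting of `p`-elements. -/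
noncomputable def kP (p : ℕ) (G : Type u) [Group G] : ℕ :=
  Nat.card {c : ConjClasses G // ∀ x ∈ c.carrier, ∃ k : ℕ, orderOf x = p ^ k}

/-- Burnside counting: if every element outside the proper subgroup `C` fixes at most a `1/p`
fraction of the points, the number of orbits is at most `(p+1)/(2p)` times the number of points. -/
theorem card_orbits_le {N X : Type*} [Group N] [Finite N] [MulAction N X] [Finite X] (p : ℕ)
    (hp : 1 ≤ p) (C : Subgroup N)
    (hC : ∀ n : N, n ∉ C → p * Nat.card (MulAction.fixedBy X n) ≤ Nat.card X) (hC2 : C ≠ ⊤) :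
    2 * p * Nat.card (MulAction.orbitRel.Quotient N X) ≤ (p + 1) * Nat.card X := by
  classical
  haveI := Fintype.ofFinite N
  haveI := Fintype.ofFinite X
  haveI : Fintype (MulAction.orbitRel.Quotient N X) := Fintype.ofFinite _
  have hb := MulAction.sum_card_fixedBy_eq_card_orbits_mul_card_group N X
  simp only [← Nat.card_eq_fintype_card] at hb
  set c := Nat.card C with hc
  set n := Nat.card N with hn
  set x := Nat.card X with hx
  set o := Nat.card (MulAction.orbitRel.Quotient N X) with ho
  have hb' : ∑ g : N, Nat.card (MulAction.fixedBy X g) = o * n := hb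
  have hfix : ∀ g : N, p * Nat.card (MulAction.fixedBy X g) ≤ if g ∈ C then p * x else x := by
    intro g
    split_ifs with hg
    · apply Nat.mul_le_mul_left
      exact Nat.card_mono (Set.toFinite _) (Set.subset_univ _) |>.trans (by simp [hx])
    · exact hC g hg
  have hsum : p * (o * n) ≤ c * (p * x) + (n - c) * x := by
    rw [← hb', Finset.mul_sum]
    refine (Finset.sum_le_sum fun g _ => hfix g).trans ?_
    rw [Finset.sum_ite]
    simp only [Finset.sum_const, smul_eq_mul]
    have h1 : (Finset.univ.filter fun g : N => g ∈ C).card = c := by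
      rw [hc, Nat.card_eq_fintype_card, Fintype.card_subtype]
    have h2 : (Finset.univ.filter fun g : N => g ∉ C).card = n - c := by
      rw [Finset.filter_not, Finset.card_sdiff_of_subset (Finset.filter_subset _ _), h1,
        Finset.card_univ, hn, Nat.card_eq_fintype_card]
    rw [h1, h2]
  -- `2 c ≤ n`
  have h2c : 2 * c ≤ n := by
    have hidx : C.index ≠ 1 := fun h => hC2 (Subgroup.index_eq_one.1 h)
    have hidx0 : C.index ≠ 0 := Subgroup.index_ne_zero_of_finite
    have h := Subgroup.card_mul_index C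
    rw [← hc, ← hn] at h
    have : 2 ≤ C.index := by omega
    calc 2 * c ≤ C.index * c := Nat.mul_le_mul_right _ this
      _ = n := by rw [mul_comm]; exact h
  have hcn : c ≤ n := by omega
  obtain ⟨d, hd⟩ : ∃ d, n = c + d := ⟨n - c, by omega⟩
  have hnc : n - c = d := by omega
  rw [hnc] at hsum
  have hnpos : 0 < n := by rw [hn]; exact Nat.card_pos
  apply Nat.le_of_mul_le_mul_right _ hnpos
  obtain ⟨q, hq⟩ : ∃ q, p = q + 1 := ⟨p - 1, by omega⟩
  have h2cd : c ≤ d := by omega
  rw [hd] at hsum ⊢
  subst hq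
  nlinarith [Nat.zero_le (q * x * (d - c)), Nat.mul_le_mul_right (q * x) h2cd, Nat.zero_le (q * x)]

/-- Number of conjugacy classes of a non-commutative `p`-group. -/
theorem card_conjClasses_le_of_not_comm {Q : Type*} [Group Q] [Finite Q] {p : ℕ} [Fact p.Prime]
    (hQ : IsPGroup p Q) (hna : ¬ IsMulCommutative Q) :
    p ^ 3 * Nat.card (ConjClasses Q) + Nat.card Q ≤ (p ^ 2 + p) * Nat.card Q := by
  classical
  haveI := Fintype.ofFinite Q
  haveI : Fintype (ConjClasses Q) := Fintype.ofFinite _
  have hp := (Fact.out : p.Prime)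
  -- class equation
  have hcl := Group.nat_card_center_add_sum_card_noncenter_eq_card Q
  set Z := Nat.card (Subgroup.center Q) with hZ
  -- center has index at least `p^2`
  have hZidx : p ^ 2 * Z ≤ Nat.card Q := by
    have h := Subgroup.card_mul_index (Subgroup.center Q)
    rw [← hZ] at h
    have hdvd : (Subgroup.center Q).index ∣ Nat.card Q := Subgroup.index_dvd_card _
    obtain ⟨k, hk⟩ := hQ.exists_card_eq
    rw [hk] at hdvd
    obtain ⟨j, _, hj⟩ := (Nat.dvd_prime_pow hp).1 hdvd
    have hj2 : 2 ≤ j := by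
      by_contra hlt
      have : j = 0 ∨ j = 1 := by omega
      rcases this with rfl | rfl
      · rw [pow_zero] at hj
        apply hna
        have : Subgroup.center Q = ⊤ := Subgroup.index_eq_one.1 hj
        exact ⟨⟨fun a b => by
          have := Subgroup.mem_center_iff.1 (this ▸ Subgroup.mem_top a : a ∈ Subgroup.center Q) b
          exact this.symm⟩⟩
      · rw [pow_one] at hj
        apply hna
        have hcard : Nat.card (Q ⧸ Subgroup.center Q) = p := by
          rw [← Subgroup.index_eq_card, hj]
        haveI : Fact p.Prime := ⟨hp⟩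
        haveI : IsCyclic (Q ⧸ Subgroup.center Q) := isCyclic_of_prime_card hcard
        exact ⟨⟨fun a b => commutative_of_cyclic_center_quotient (QuotientGroup.mk' (Subgroup.center Q))
          (by rw [QuotientGroup.ker_mk']) a b⟩⟩
    calc p ^ 2 * Z ≤ (Subgroup.center Q).index * Z := by
          apply Nat.mul_le_mul_right
          rw [hj]; exact Nat.pow_le_pow_right hp.pos hj2
      _ = Nat.card Q := by rw [mul_comm]; exact h
  set S := (ConjClasses.noncenter Q).toFinset with hS
  have hsum : Z + ∑ x ∈ S, Nat.card x.carrier = Nat.card Q := by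
    rw [← hcl, finsum_mem_eq_toFinset_sum]
  have hge : ∀ x ∈ S, p ≤ Nat.card x.carrier := by
    intro x hx
    rw [hS, Set.mem_toFinset] at hx
    obtain ⟨g, rfl⟩ := ConjClasses.mk_surjective x
    have hnt : (ConjClasses.mk g).carrier.Nontrivial := hx
    have h1 : Nat.card (ConjClasses.mk g).carrier = (MulAction.stabilizer (ConjAct Q) g).index := by
      rw [MulAction.index_stabilizer, ConjAct.orbit_eq_carrier_conjClasses]
      rfl
    have h2 : (MulAction.stabilizer (ConjAct Q) g).index ∣ Nat.card Q :=
      Subgroup.index_dvd_card (MulAction.stabilizer (ConjAct Q) g)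
    obtain ⟨k, hk⟩ := hQ.exists_card_eq
    rw [hk] at h2
    obtain ⟨j, _, hj⟩ := (Nat.dvd_prime_pow hp).1 h2
    have hne : Nat.card (ConjClasses.mk g).carrier ≠ 1 := by
      intro h
      rw [Nat.card_eq_one_iff_unique] at h
      obtain ⟨a, ha, b, hb, hab⟩ := hnt
      exact hab (congrArg Subtype.val (h.1.elim ⟨a, ha⟩ ⟨b, hb⟩))
    rw [h1, hj] at hne ⊢
    have hj0 : j ≠ 0 := by
      rintro rfl
      exact hne (pow_zero _)
    calc p = p ^ 1 := (pow_one p).symm
      _ ≤ p ^ j := Nat.pow_le_pow_right hp.pos (Nat.pos_of_ne_zero hj0)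
  have hps : p * S.card ≤ ∑ x ∈ S, Nat.card x.carrier := by
    have := Finset.card_nsmul_le_sum S (fun x => Nat.card x.carrier) p hge
    rwa [smul_eq_mul, mul_comm] at this
  have hk : Nat.card (ConjClasses Q) = S.card + Z := by
    have h1 : Z = Fintype.card ((ConjClasses.noncenter Q)ᶜ : Set (ConjClasses Q)) := by
      rw [hZ, Nat.card_eq_fintype_card]
      exact Fintype.card_congr ((ConjClasses.mk_bijOn Q).equiv _)
    rw [h1, Nat.card_eq_fintype_card, ← Set.toFinset_card, Set.toFinset_compl,
      Finset.card_compl, hS]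
    have := Finset.card_le_univ (ConjClasses.noncenter Q).toFinset
    omega
  rw [hk]
  obtain ⟨q, hq⟩ : ∃ q, p = q + 1 := ⟨p - 1, by have := hp.pos; omega⟩
  have hA : p * S.card + Z ≤ Nat.card Q := by omega
  have h1 := Nat.mul_le_mul_left (p ^ 2) hA
  have h2 := Nat.mul_le_mul_left q hZidx
  rw [hq] at h1 ⊢
  rw [hq] at h2
  nlinarith

section main

variable {p : ℕ} [hpf : Fact p.Prime] [Finite G]

/-- Every conjugacy class of `p`-elements meets a given Sylow `p`-subgroup. -/
theorem exists_mem_sylow_of_pclass (P : Sylow p G) (c : ConjClasses G)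
    (hc : ∀ x ∈ c.carrier, ∃ k : ℕ, orderOf x = p ^ k) :
    ∃ x ∈ (P : Subgroup G), ConjClasses.mk x = c := by
  obtain ⟨x, rfl⟩ := ConjClasses.mk_surjective c
  obtain ⟨k, hk⟩ := hc x ConjClasses.mem_carrier_mk
  have hW : IsPGroup p (Subgroup.zpowers x) :=
    IsPGroup.of_card (n := k) (by rw [Nat.card_zpowers, hk])
  obtain ⟨y, hy⟩ := Cfsg.Agent.Lib.Transfer.Frobenius.exists_conj_mem_of_isPGroup P hW
  refine ⟨y * x * y⁻¹, hy x (Subgroup.mem_zpowers x), ?_⟩
  rw [ConjClasses.mk_eq_mk_iff_isConj]
  exact (isConj_iff.2 ⟨y, rfl⟩).symm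

/-- `kP ≤ k(P)`. -/
theorem kP_le_card_conjClasses (P : Sylow p G) :
    kP p G ≤ Nat.card (ConjClasses (P : Subgroup G)) := by
  classical
  have hex : ∀ c : {c : ConjClasses G // ∀ x ∈ c.carrier, ∃ k : ℕ, orderOf x = p ^ k},
      ∃ x : (P : Subgroup G), ConjClasses.mk (x : G) = c.1 := by
    intro c
    obtain ⟨x, hx, hxc⟩ := exists_mem_sylow_of_pclass P c.1 c.2
    exact ⟨⟨x, hx⟩, hxc⟩
  choose f hf using hex
  apply Nat.card_le_card_of_injective (fun c => ConjClasses.mk (f c))
  intro c d hcd
  have h := ConjClasses.mk_eq_mk_iff_isConj.1 hcd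
  apply Subtype.ext
  rw [← hf c, ← hf d]
  rw [ConjClasses.mk_eq_mk_iff_isConj]
  obtain ⟨u, hu⟩ := isConj_iff.1 h
  exact isConj_iff.2 ⟨u, by simpa using congrArg Subtype.val hu⟩

/-- `kP ≤ |P|`. -/
theorem kP_le_card (P : Sylow p G) : kP p G ≤ Nat.card (P : Subgroup G) := by
  classical
  have hex : ∀ c : {c : ConjClasses G // ∀ x ∈ c.carrier, ∃ k : ℕ, orderOf x = p ^ k},
      ∃ x : (P : Subgroup G), ConjClasses.mk (x : G) = c.1 := by
    intro c
    obtain ⟨x, hx, hxc⟩ := exists_mem_sylow_of_pclass P c.1 c.2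
    exact ⟨⟨x, hx⟩, hxc⟩
  choose f hf using hex
  apply Nat.card_le_card_of_injective f
  intro c d hcd
  apply Subtype.ext
  rw [← hf c, ← hf d, hcd]

/-- The conjugation action of the normalizer. -/
@[reducible] def conjNormAct (P : Subgroup G) : MulAction (Subgroup.normalizer (P : Set G)) P where
  smul n x := ⟨(n : G) * x * (n : G)⁻¹, (Subgroup.mem_normalizer_iff.1 n.2 x).1 x.2⟩
  one_smul x := by
    apply Subtype.ext
    show ((1 : Subgroup.normalizer (P : Set G)) : G) * x * ((1 : Subgroup.normalizer (P : Set G)) : G)⁻¹ = x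
    simp
  mul_smul a b x := by
    apply Subtype.ext
    show ((a * b : Subgroup.normalizer (P : Set G)) : G) * x * ((a * b : Subgroup.normalizer (P : Set G)) : G)⁻¹ =
      (a : G) * ((b : G) * x * (b : G)⁻¹) * (a : G)⁻¹
    simp only [Subgroup.coe_mul, mul_inv_rev]
    group

theorem forward (hp : p ≠ 2) (P : Sylow p G)
    (h : (p + 1) * Nat.card (P : Subgroup G) < 2 * p * kP p G) :
    Cfsg.HasNormalPComplement p G ∧ IsMulCommutative (P : Subgroup G) := by
  classical
  have hpp := hpf.out
  have hp3 : 3 ≤ p := by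
    have := hpp.two_le
    omega
  set A := Nat.card (P : Subgroup G) with hA
  have hApos : 0 < A := Nat.card_pos
  have hab : IsMulCommutative (P : Subgroup G) := by
    by_contra hna
    have h1 := card_conjClasses_le_of_not_comm (Q := (P : Subgroup G)) P.isPGroup' hna
    have h2 := kP_le_card_conjClasses P
    rw [← hA] at h1
    set K := Nat.card (ConjClasses (P : Subgroup G))
    have h3 : p ^ 2 * ((p + 1) * A) < p ^ 2 * (2 * p * kP p G) :=
      Nat.mul_lt_mul_of_pos_left h (by positivity)
    have h4 : 2 * p ^ 3 * kP p G ≤ 2 * p ^ 3 * K := Nat.mul_le_mul_left _ h2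
    have h5 : (p ^ 2 * (p + 1) + 2) * A < (2 * (p ^ 2 + p)) * A := by nlinarith
    have h6 := Nat.lt_of_mul_lt_mul_right h5
    nlinarith [Nat.mul_le_mul hp3 hp3]
  refine ⟨?_, hab⟩
  have hNC : Subgroup.normalizer ((P : Subgroup G) : Set G) ≤
      Subgroup.centralizer ((P : Subgroup G) : Set G) := by
    by_contra hno
    letI : MulAction (Subgroup.normalizer ((P : Subgroup G) : Set G)) (P : Subgroup G) :=
      conjNormAct (P : Subgroup G)
    let C : Subgroup (Subgroup.normalizer ((P : Subgroup G) : Set G)) :=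
      (Subgroup.centralizer ((P : Subgroup G) : Set G)).subgroupOf _
    have hC2 : C ≠ ⊤ := by
      intro hC
      apply hno
      intro n hn
      have : (⟨n, hn⟩ : Subgroup.normalizer ((P : Subgroup G) : Set G)) ∈ C := hC ▸ Subgroup.mem_top _
      exact Subgroup.mem_subgroupOf.1 this
    have hC : ∀ n : Subgroup.normalizer ((P : Subgroup G) : Set G), n ∉ C →
        p * Nat.card (MulAction.fixedBy (P : Subgroup G) n) ≤ Nat.card (P : Subgroup G) := by
      intro n hn
      let F : Subgroup (P : Subgroup G) :=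
        (Subgroup.centralizer ({(n : G)} : Set G)).subgroupOf (P : Subgroup G)
      have hF : ∀ x : (P : Subgroup G), x ∈ MulAction.fixedBy (P : Subgroup G) n ↔ x ∈ F := by
        intro x
        rw [MulAction.mem_fixedBy, Subgroup.mem_subgroupOf, Subgroup.mem_centralizer_singleton_iff]
        constructor
        · intro hx
          have h1 : (n : G) * x * (n : G)⁻¹ = x := congrArg Subtype.val hx
          exact (mul_inv_eq_iff_eq_mul.1 h1).symm
        · intro hx
          apply Subtype.ext
          show (n : G) * x * (n : G)⁻¹ = x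
          rw [mul_inv_eq_iff_eq_mul]
          exact hx.symm
      have hcard : Nat.card (MulAction.fixedBy (P : Subgroup G) n) = Nat.card F :=
        Nat.card_congr (Equiv.subtypeEquivRight hF)
      rw [hcard]
      have hFne : F ≠ ⊤ := by
        intro hFt
        apply hn
        show (n : G) ∈ Subgroup.centralizer ((P : Subgroup G) : Set G)
        rw [Subgroup.mem_centralizer_iff]
        intro x hx
        have h1 : (⟨x, hx⟩ : (P : Subgroup G)) ∈ F := hFt ▸ Subgroup.mem_top _
        have h2 := Subgroup.mem_subgroupOf.1 h1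
        rw [Subgroup.mem_centralizer_singleton_iff] at h2
        exact h2
      have hmul := Subgroup.card_mul_index F
      have hidx : p ∣ F.index := by
        have hd : F.index ∣ Nat.card (P : Subgroup G) := Subgroup.index_dvd_card _
        obtain ⟨k, hk⟩ := IsPGroup.exists_card_eq P.isPGroup'
        rw [hk] at hd
        obtain ⟨j, _, hj⟩ := (Nat.dvd_prime_pow hpp).1 hd
        have hj0 : j ≠ 0 := by
          rintro rfl
          rw [pow_zero] at hj
          exact hFne (Subgroup.index_eq_one.1 hj)
        rw [hj]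
        exact dvd_pow_self p hj0
      obtain ⟨i, hi⟩ := hidx
      have hipos : 0 < i := by
        apply Nat.pos_of_ne_zero
        rintro rfl
        have : F.index ≠ 0 := Subgroup.index_ne_zero_of_finite
        exact this (by simpa using hi)
      rw [← hmul, hi]
      calc p * Nat.card F = Nat.card F * (p * 1) := by ring
        _ ≤ Nat.card F * (p * i) := by
          apply Nat.mul_le_mul_left
          exact Nat.mul_le_mul_left _ hipos
    have hb := card_orbits_le p hpp.one_le C hC hC2
    have hko : kP p G ≤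
        Nat.card (MulAction.orbitRel.Quotient (Subgroup.normalizer ((P : Subgroup G) : Set G))
          (P : Subgroup G)) := by
      have hex : ∀ c : {c : ConjClasses G // ∀ x ∈ c.carrier, ∃ k : ℕ, orderOf x = p ^ k},
          ∃ x : (P : Subgroup G), ConjClasses.mk (x : G) = c.1 := by
        intro c
        obtain ⟨x, hx, hxc⟩ := exists_mem_sylow_of_pclass P c.1 c.2
        exact ⟨⟨x, hx⟩, hxc⟩
      choose f hf using hex
      apply Nat.card_le_card_of_injective (fun c => (Quotient.mk _ (f c) :
        MulAction.orbitRel.Quotient (Subgroup.normalizer ((P : Subgroup G) : Set G)) (P : Subgroup G)))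
      intro c d hcd
      obtain ⟨n, hn⟩ := MulAction.orbitRel_apply.1 (Quotient.exact hcd)
      apply Subtype.ext
      rw [← hf c, ← hf d, ConjClasses.mk_eq_mk_iff_isConj]
      have h2 : (n : G) * (f d : G) * (n : G)⁻¹ = (f c : G) := congrArg Subtype.val hn
      exact (isConj_iff.2 ⟨(n : G), h2⟩).symm
    have : 2 * p * kP p G ≤ (p + 1) * A :=
      (Nat.mul_le_mul_left _ hko).trans hb
    omega
  exact ⟨P, (MonoidHom.transferSylow P hNC).ker, inferInstance,
    MonoidHom.ker_transferSylow_isComplement' P hNC⟩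

theorem backward (hp : p ≠ 2) (P : Sylow p G) (hN : Cfsg.HasNormalPComplement p G)
    (hab : IsMulCommutative (P : Subgroup G)) :
    (p + 1) * Nat.card (P : Subgroup G) < 2 * p * kP p G := by
  classical
  have hpp := hpf.out
  have hp3 : 3 ≤ p := by
    have := hpp.two_le
    omega
  obtain ⟨N, hNn, hc⟩ :=
    Cfsg.Agent.Lib.Transfer.Basic.exists_complement_of_hasNormalPComplement hN P
  have hinj : Nat.card (P : Subgroup G) ≤ kP p G := by
    let f : ↥(P : Subgroup G) → {c : ConjClasses G // ∀ x ∈ c.carrier, ∃ k : ℕ, orderOf x = p ^ k} :=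
      fun x => ⟨ConjClasses.mk (x : G), by
        intro y hy
        have hconj : IsConj (x : G) y :=
          (ConjClasses.mk_eq_mk_iff_isConj.1 (ConjClasses.mem_carrier_iff_mk_eq.1 hy)).symm
        obtain ⟨g, rfl⟩ := isConj_iff.1 hconj
        rw [Cfsg.Agent.Lib.Transfer.Basic.orderOf_conj_eq]
        obtain ⟨k, hk⟩ := (IsPGroup.iff_orderOf.1 P.isPGroup') x
        exact ⟨k, by rw [← hk, Subgroup.orderOf_coe]⟩⟩
    apply Nat.card_le_card_of_injective f
    intro x y hxy
    have h1 := congrArg Subtype.val hxy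
    have h2 := ConjClasses.mk_eq_mk_iff_isConj.1 h1
    obtain ⟨g, hg⟩ := isConj_iff.1 h2
    -- write `g = n u`
    obtain ⟨⟨⟨n, hn⟩, ⟨u, hu⟩⟩, hnu⟩ := hc.2 g
    have hnu' : n * u = g := hnu
    have hcomm : u * (x : G) * u⁻¹ = x := by
      have := hab.is_comm.comm (⟨u, hu⟩ : (P : Subgroup G)) x
      have h3 : u * (x : G) = x * u := congrArg Subtype.val this
      rw [h3]; group
    have h4 : n * (x : G) * n⁻¹ = y := by
      rw [← hg, ← hnu', mul_inv_rev]
      calc n * (x : G) * n⁻¹ = n * (u * (x : G) * u⁻¹) * n⁻¹ := by rw [hcomm]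
        _ = _ := by group
    have h5 : (y : G) * (x : G)⁻¹ ∈ N := by
      rw [← h4]
      have : n * (x : G) * n⁻¹ * (x : G)⁻¹ = n * ((x : G) * n⁻¹ * (x : G)⁻¹) := by group
      rw [this]
      exact N.mul_mem hn (hNn.conj_mem _ (N.inv_mem hn) _)
    have h6 : (y : G) * (x : G)⁻¹ ∈ (P : Subgroup G) := (P : Subgroup G).mul_mem y.2 ((P : Subgroup G).inv_mem x.2)
    have h7 : (y : G) * (x : G)⁻¹ = 1 := by
      have := hc.disjoint
      exact Subgroup.disjoint_def.1 this h5 h6
    apply Subtype.ext
    exact (mul_inv_eq_one.1 h7).symm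
  have hApos : 0 < Nat.card (P : Subgroup G) := Nat.card_pos
  calc (p + 1) * Nat.card (P : Subgroup G) < 2 * p * Nat.card (P : Subgroup G) :=
        Nat.mul_lt_mul_of_pos_right (by omega) hApos
    _ ≤ 2 * p * kP p G := Nat.mul_le_mul_left _ hinj

end main

end Cfsg.Agent.Lib.Nilpotent.PClasses
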