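import Mathlib
import Cfsg.Agent.Lib.Nilpotent.Fitting
import Cfsg.Agent.Lib.Nilpotent.Elements
import Cfsg.Agent.Lib.Nilpotent.MinNonNilpotent
import Cfsg.Agent.Lib.Nilpotent.Subnormal

/-!
# Wielandt's theorem on nilpotent Hall subgroups

If `H` is a nilpotent Hall subgroup of a finite group `G`, then each subgroup whose order has only
prime divisors dividing `|H|` lies in a conjugate of `H`.
-/

namespace Cfsg.Agent.Lib.Nilpotent.WielandtHall

open Subgroup Cfsg.Agent.Lib.Nilpotent Cfsg.Agent.Lib.Nilpotent.Subnormal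
open scoped Pointwise

variable {G : Type*} [Group G]

/-- The Sylow `r`-subgroup of a Hall subgroup `H`, for `r` dividing `|H|`. -/
theorem exists_sylow_le_of_hall [Finite G] {H : Subgroup G}
    (hHall : (Nat.card H).Coprime H.index) {r : ℕ} [hr : Fact r.Prime] (hd : r ∣ Nat.card H) :
    ∃ S : Subgroup G, S ≤ H ∧ IsPGroup r S ∧ ¬ r ∣ S.index ∧ r ∣ Nat.card S := by
  let S₀ : Sylow r H := default
  have hle : (S₀ : Subgroup H).map H.subtype ≤ H := by
    rintro _ ⟨x, _, rfl⟩
    exact x.2
  have hidx : ((S₀ : Subgroup H).map H.subtype).index = (S₀ : Subgroup H).index * H.index := by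
    rw [← Subgroup.relIndex_mul_index hle]
    congr 1
    rw [Subgroup.relIndex, Subgroup.subgroupOf, Subgroup.comap_map_eq_self_of_injective]
    exact H.subtype_injective
  have hnH : ¬ r ∣ H.index := by
    intro hdI
    have := Nat.dvd_gcd hd hdI
    rw [hHall.gcd_eq_one] at this
    exact (Fact.out : r.Prime).one_lt.ne' (Nat.dvd_one.mp this)
  refine ⟨_, hle, S₀.isPGroup'.map H.subtype, ?_, ?_⟩
  · rw [hidx, Nat.Prime.dvd_mul Fact.out]
    push Not
    exact ⟨S₀.not_dvd_index, hnH⟩
  · rw [Subgroup.card_map_of_injective H.subtype_injective]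
    have := Sylow.ne_bot_of_dvd_card S₀ hd
    obtain ⟨n, hn⟩ := IsPGroup.iff_card.mp S₀.isPGroup'
    rw [show Nat.card S₀ = r ^ n from hn]
    have hn0 : n ≠ 0 := by
      rintro rfl
      apply this
      rw [← Subgroup.card_eq_one]
      simpa using hn
    exact dvd_pow_self r hn0

/-- Conjugates of a nilpotent Hall subgroup are such. -/
theorem card_cj (g : G) (X : Subgroup G) : Nat.card (cj g X) = Nat.card X :=
  (Nat.card_congr (X.equivSMul (MulAut.conj g)).toEquiv).symm

theorem index_cj (g : G) (X : Subgroup G) : (cj g X).index = X.index := by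
  exact Subgroup.index_map_equiv X (MulAut.conj g)

theorem isNilpotent_cj (g : G) {X : Subgroup G} (h : Group.IsNilpotent X) :
    Group.IsNilpotent (cj g X) := by
  have e : X ≃* cj g X := X.equivSMul (MulAut.conj g)
  exact Group.nilpotent_of_mulEquiv e

/-- A subgroup all of whose proper subgroups are nilpotent has a nontrivial normal
subgroup of prime power order. -/
theorem exists_normal_pSubgroup [Finite G] {K : Subgroup G} (hK : K ≠ ⊥)
    (hprop : ∀ K₀ : Subgroup G, K₀ < K → Group.IsNilpotent K₀) :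
    ∃ (q : ℕ) (Q : Subgroup G), q.Prime ∧ IsPGroup q Q ∧ Q ≠ ⊥ ∧ Q ≤ K ∧
      K ≤ Subgroup.normalizer (Q : Set G) := by
  -- the general statement in the group `K`
  suffices h : ∃ (q : ℕ) (Q : Subgroup K), q.Prime ∧ IsPGroup q Q ∧ Q ≠ ⊥ ∧ Q.Normal by
    obtain ⟨q, Q, hq, hQp, hQne, hQn⟩ := h
    refine ⟨q, Q.map K.subtype, hq, hQp.map K.subtype, ?_, ?_, ?_⟩
    · intro hb
      apply hQne
      rw [Subgroup.map_eq_bot_iff_of_injective _ K.subtype_injective] at hb
      exact hb
    · rintro _ ⟨x, _, rfl⟩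
      exact x.2
    · intro k hk
      rw [Subgroup.mem_normalizer_iff]
      intro a
      constructor
      · rintro ⟨x, hx, rfl⟩
        exact ⟨⟨k, hk⟩ * x * (⟨k, hk⟩ : K)⁻¹, hQn.conj_mem x hx ⟨k, hk⟩, rfl⟩
      · rintro ⟨x, hx, hxe⟩
        have h1 : (⟨k, hk⟩ : K)⁻¹ * x * ⟨k, hk⟩ ∈ Q := by
          have := hQn.conj_mem x hx (⟨k, hk⟩ : K)⁻¹
          simpa using this
        refine ⟨_, h1, ?_⟩
        have hxe' : (x : G) = k * a * k⁻¹ := hxe
        simp [hxe', mul_assoc]
  have hKnt : Nontrivial K := (Subgroup.nontrivial_iff_ne_bot K).mpr hK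
  by_cases hnil : Group.IsNilpotent K
  · obtain ⟨q, hq, hqd⟩ := Nat.exists_prime_and_dvd (n := Nat.card K) (by
      rw [Ne, Subgroup.card_eq_one]; exact hK)
    have : Fact q.Prime := ⟨hq⟩
    let S : Sylow q K := default
    exact ⟨q, S, hq, S.isPGroup', Sylow.ne_bot_of_dvd_card S hqd, inferInstance⟩
  · have hprop' : ∀ H : Subgroup K, H ≠ ⊤ → Group.IsNilpotent H := by
      intro H hH
      have hlt : H.map K.subtype < K := by
        refine lt_of_le_of_ne ?_ ?_
        · rintro _ ⟨x, _, rfl⟩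
          exact x.2
        · intro hEq
          apply hH
          have h1 : H.map K.subtype = (⊤ : Subgroup K).map K.subtype := by
            rw [hEq, ← MonoidHom.range_eq_map, Subgroup.range_subtype]
          exact Subgroup.map_injective K.subtype_injective h1
      have := hprop _ hlt
      exact Group.nilpotent_of_mulEquiv (H.equivMapOfInjective K.subtype K.subtype_injective).symm
    obtain ⟨p, q, hp, hq, hpq, P, Q, hcyc, hQn, hsup⟩ :=
      MinNonNilpotent.exists_structure hnil hprop'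
    refine ⟨q, Q, hq, Q.isPGroup', ?_, hQn⟩
    intro hb
    apply hnil
    rw [hb, sup_bot_eq] at hsup
    have : Fact p.Prime := ⟨hp⟩
    have hn : Group.IsNilpotent (P : Subgroup K) := P.isPGroup'.isNilpotent
    rw [hsup] at hn
    exact Group.isNilpotent_top.mp hn

/-- **Wielandt's theorem.** -/
theorem exists_le_conj_of_nilpotent_hall {G : Type*} [Group G] [Finite G] (H K : Subgroup G)
    (hH : Group.IsNilpotent H) (hHall : (Nat.card H).Coprime H.index)
    (hK : ∀ p : ℕ, p.Prime → p ∣ Nat.card K → p ∣ Nat.card H) :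
    ∃ x : G, K ≤ MulAut.conj x • H := by
  classical
  induction hn : Nat.card G using Nat.strong_induction_on generalizing G with
  | _ n ih =>
  induction K using WellFoundedLT.induction with
  | ind K ih₂ =>
  by_cases hKbot : K = ⊥
  · refine ⟨1, ?_⟩
    rw [hKbot]
    exact bot_le
  -- proper subgroups of `K` are nilpotent
  have hprop : ∀ K₀ : Subgroup G, K₀ < K → Group.IsNilpotent K₀ := by
    intro K₀ hlt
    obtain ⟨x, hx⟩ := ih₂ K₀ hlt (fun p hp hd => hK p hp
      (hd.trans (Subgroup.card_dvd_of_le hlt.le)))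
    exact Fitting.isNilpotent_of_le hx (isNilpotent_cj x hH)
  obtain ⟨q, Q, hq, hQp, hQne, hQK, hKN⟩ := exists_normal_pSubgroup hKbot hprop
  have : Fact q.Prime := ⟨hq⟩
  have hqQ : q ∣ Nat.card Q := by
    obtain ⟨m, hm⟩ := IsPGroup.iff_card.mp hQp
    rw [hm]
    have hm0 : m ≠ 0 := by
      rintro rfl
      apply hQne
      rw [← Subgroup.card_eq_one]
      simpa using hm
    exact dvd_pow_self q hm0
  have hqH : q ∣ Nat.card H := hK q hq (hqQ.trans (Subgroup.card_dvd_of_le hQK))
  -- a Sylow `q`-subgroup of `G` in `H`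
  obtain ⟨S, hSH, hSp, hSidx, -⟩ := exists_sylow_le_of_hall hHall hqH
  set N := Subgroup.normalizer (Q : Set G) with hN
  -- a Sylow `q`-subgroup `R` of `N`
  let R₀ : Sylow q N := default
  set R : Subgroup G := (R₀ : Subgroup N).map N.subtype with hR
  have hRle : R ≤ N := by
    rintro _ ⟨x, _, rfl⟩
    exact x.2
  have hRp : IsPGroup q R := R₀.isPGroup'.map N.subtype
  have hQR : Q ≤ R := by
    have hQN : Q ≤ N := Subgroup.le_normalizer
    have hQ' : (Q.subgroupOf N).Normal := Subgroup.normal_in_normalizer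
    have hQ'p : IsPGroup q (Q.subgroupOf N) :=
      hQp.to_le (show (Q.subgroupOf N).map N.subtype ≤ Q by
        rintro _ ⟨x, hx, rfl⟩
        exact hx) |>.of_equiv ((Q.subgroupOf N).equivMapOfInjective N.subtype N.subtype_injective).symm
    have h1 := hQ'p.le_sylow_of_normal R₀
    intro x hx
    exact ⟨⟨x, hQN hx⟩, h1 (Subgroup.mem_subgroupOf.mpr hx), rfl⟩
  -- conjugate `H` so that `R ≤ H`
  obtain ⟨T, hRT⟩ := hRp.exists_le_sylow
  let S' : Sylow q G := hSp.toSylow hSidx
  obtain ⟨x₀, hx₀⟩ := MulAction.exists_smul_eq G S' T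
  have hRH₁ : R ≤ MulAut.conj x₀ • H := by
    refine hRT.trans ?_
    rw [← hx₀, Sylow.coe_subgroup_smul]
    exact Subgroup.pointwise_smul_le_pointwise_smul_iff.mpr hSH
  -- reduce the problem to `H₁ = x₀ • H`
  suffices hsuff : ∃ y : G, K ≤ MulAut.conj y • (MulAut.conj x₀ • H) by
    obtain ⟨y, hy⟩ := hsuff
    refine ⟨y * x₀, ?_⟩
    rw [map_mul, mul_smul]
    exact hy
  set H₁ := MulAut.conj x₀ • H with hH₁
  have hH₁nil : Group.IsNilpotent H₁ := isNilpotent_cj x₀ hH
  have hH₁card : Nat.card H₁ = Nat.card H := card_cj x₀ H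
  have hH₁idx : H₁.index = H.index := index_cj x₀ H
  have hH₁Hall : (Nat.card H₁).Coprime H₁.index := by rw [hH₁card, hH₁idx]; exact hHall
  have hQH₁ : Q ≤ H₁ := hQR.trans hRH₁
  -- case distinction: `Q` normal in `G` or not
  by_cases hNtop : N = ⊤
  · -- pass to the quotient by `Q`
    have hQn : Q.Normal := Subgroup.normalizer_eq_top_iff.mp hNtop
    let π := QuotientGroup.mk' Q
    have hπ : Function.Surjective π := QuotientGroup.mk'_surjective Q
    have hker : π.ker = Q := QuotientGroup.ker_mk' Q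
    have hcardlt : Nat.card (G ⧸ Q) < n := by
      rw [← hn, ← Subgroup.index_eq_card, ← Subgroup.card_mul_index Q]
      have h1 : 1 < Nat.card Q := (Subgroup.one_lt_card_iff_ne_bot Q).mpr hQne
      have h2 : 0 < Q.index := Nat.pos_of_ne_zero Subgroup.index_ne_zero_of_finite
      nlinarith
    have hHmapnil : Group.IsNilpotent (H₁.map π) :=
      Group.nilpotent_of_surjective _ (MonoidHom.subgroupMap_surjective π H₁)
    have hidxmap : (H₁.map π).index = H₁.index := by
      rw [Subgroup.index_map, hker, MonoidHom.range_eq_top.mpr hπ, Subgroup.index_top, mul_one,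
        sup_eq_left.mpr hQH₁]
    have hcarddvd : Nat.card (H₁.map π) ∣ Nat.card H₁ :=
      Subgroup.card_map_dvd H₁ π
    have hHall' : (Nat.card (H₁.map π)).Coprime (H₁.map π).index := by
      rw [hidxmap]
      exact Nat.Coprime.coprime_dvd_left hcarddvd hH₁Hall
    have hK' : ∀ p : ℕ, p.Prime → p ∣ Nat.card (K.map π) → p ∣ Nat.card (H₁.map π) := by
      intro p hp hd
      have h1 : p ∣ Nat.card K := hd.trans (Subgroup.card_map_dvd K π)
      have h2 : p ∣ Nat.card H₁ := by rw [hH₁card]; exact hK p hp h1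
      have h3 : p ∣ Nat.card (G ⧸ Q) := hd.trans (Subgroup.card_subgroup_dvd_card _)
      rw [← Subgroup.card_mul_index (H₁.map π), hidxmap] at h3
      rcases (Nat.Prime.dvd_mul hp).mp h3 with h4 | h4
      · exact h4
      · exfalso
        have := Nat.dvd_gcd h2 h4
        rw [hH₁Hall.gcd_eq_one] at this
        exact hp.one_lt.ne' (Nat.dvd_one.mp this)
    obtain ⟨xb, hxb⟩ := ih _ hcardlt (H₁.map π) (K.map π) hHmapnil hHall' hK' rfl
    obtain ⟨y, rfl⟩ := hπ xb
    refine ⟨y, ?_⟩
    intro k hk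
    have h1 : π k ∈ MulAut.conj (π y) • H₁.map π := hxb ⟨k, hk, rfl⟩
    rw [Subgroup.mem_pointwise_smul_iff_inv_smul_mem] at h1 ⊢
    have h2 : (MulAut.conj (π y))⁻¹ • π k = π ((MulAut.conj y)⁻¹ • k) := by
      simp only [MulAut.smul_def, MulAut.inv_def, MulAut.conj_symm_apply, map_mul, map_inv]
    rw [h2] at h1
    obtain ⟨z, hz, hze⟩ := h1
    have h3 : z⁻¹ * ((MulAut.conj y)⁻¹ • k) ∈ π.ker := by
      rw [MonoidHom.mem_ker, map_mul, map_inv, hze]
      exact inv_mul_cancel _
    rw [hker] at h3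
    have h4 := H₁.mul_mem hz (hQH₁ h3)
    simpa using h4
  · -- pass to the normalizer `N` of `Q`
    have hcardN : Nat.card N < n := by
      rw [← hn, ← Subgroup.card_mul_index N]
      have h1 : N.index ≠ 1 := by
        rw [Ne, Subgroup.index_eq_one]; exact hNtop
      have h2 : N.index ≠ 0 := Subgroup.index_ne_zero_of_finite
      have h3 : 0 < Nat.card N := Nat.card_pos
      have h4 : 2 ≤ N.index := by omega
      nlinarith
    -- the `r`-parts of `H₁` for `r ≠ q`
    have hSr : ∀ r : ℕ, r.Prime → r ≠ q → r ∣ Nat.card H₁ →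
        ∃ S : Subgroup G, S ≤ H₁ ⊓ N ∧ ¬ r ∣ S.index ∧ r ∣ Nat.card S := by
      intro r hr hrq hd
      have : Fact r.Prime := ⟨hr⟩
      obtain ⟨Sr, hle, hp, hidx, hdv⟩ := exists_sylow_le_of_hall hH₁Hall hd
      refine ⟨Sr, le_inf hle ?_, hidx, hdv⟩
      -- `Sr` centralizes `Q`
      intro x hx
      have hcomm : ∀ z ∈ Q, x * z = z * x := by
        intro z hz
        obtain ⟨a, ha⟩ := (IsPGroup.iff_orderOf.mp hp) ⟨x, hx⟩
        obtain ⟨b, hb⟩ := (IsPGroup.iff_orderOf.mp hQp) ⟨z, hz⟩
        rw [Subgroup.orderOf_mk] at ha hb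
        have hcop : (orderOf (⟨x, hle hx⟩ : H₁)).Coprime (orderOf (⟨z, hQH₁ hz⟩ : H₁)) := by
          rw [Subgroup.orderOf_mk, Subgroup.orderOf_mk, ha, hb]
          exact Nat.Coprime.pow _ _ ((Nat.coprime_primes hr hq).mpr hrq)
        have := (Elements.commute_of_coprime_orderOf hcop).eq
        exact congrArg Subtype.val this
      rw [hN, Subgroup.mem_normalizer_iff]
      intro a
      constructor
      · intro ha
        have h1 : x * a * x⁻¹ = a := by rw [hcomm a ha]; group
        rwa [h1]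
      · intro ha
        have h1 := hcomm _ ha
        have h2 : x * (x * a * x⁻¹) = x * a := by rw [h1]; group
        have h3 : x * a * x⁻¹ = a := mul_left_cancel h2
        rwa [h3] at ha
    -- the cardinality of `X ≤ H₁ ⊓ N` divides that of `H₁.subgroupOf N`
    have hcarddvd : ∀ X : Subgroup G, X ≤ H₁ ⊓ N → Nat.card X ∣ Nat.card (H₁.subgroupOf N) := by
      intro X hX
      have h1 : X.subgroupOf N ≤ H₁.subgroupOf N := Subgroup.comap_mono (hX.trans inf_le_left)
      have h2 := Subgroup.card_dvd_of_le h1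
      rwa [Nat.card_congr (Subgroup.subgroupOfEquivOfLe (hX.trans inf_le_right)).toEquiv] at h2
    have hcarddvd2 : Nat.card (H₁.subgroupOf N) ∣ Nat.card H₁ := by
      have h1 : (H₁.subgroupOf N).map N.subtype ≤ H₁ := by
        rintro _ ⟨x, hx, rfl⟩
        exact hx
      have h2 := Subgroup.card_dvd_of_le h1
      rwa [Subgroup.card_map_of_injective N.subtype_injective] at h2
    -- the hypotheses in `N`
    have hHNnil : Group.IsNilpotent (H₁.subgroupOf N) := by
      have h1 : (H₁.subgroupOf N).map N.subtype ≤ H₁ := by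
        rintro _ ⟨x, hx, rfl⟩
        exact hx
      have h2 := Fitting.isNilpotent_of_le h1 hH₁nil
      exact Group.nilpotent_of_mulEquiv
        ((H₁.subgroupOf N).equivMapOfInjective N.subtype N.subtype_injective).symm
    have hRH₁N : R ≤ H₁ ⊓ N := le_inf hRH₁ hRle
    have hHNHall : (Nat.card (H₁.subgroupOf N)).Coprime (H₁.subgroupOf N).index := by
      apply Nat.Coprime.symm
      apply Nat.Coprime.symm
      rw [Nat.coprime_iff_gcd_eq_one]
      by_contra hne
      obtain ⟨r, hr, hrd⟩ := Nat.exists_prime_and_dvd hne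
      have hr1 : r ∣ Nat.card (H₁.subgroupOf N) := hrd.trans (Nat.gcd_dvd_left _ _)
      have hr2 : r ∣ (H₁.subgroupOf N).index := hrd.trans (Nat.gcd_dvd_right _ _)
      have hr3 : (H₁.subgroupOf N).index = (H₁ ⊓ N).relIndex N := by
        rw [Subgroup.inf_relIndex_right]
        rfl
      rw [hr3] at hr2
      by_cases hrq : r = q
      · subst hrq
        have h1 : (H₁ ⊓ N).relIndex N ∣ R.relIndex N := Subgroup.relIndex_dvd_of_le_left N hRH₁N
        have h2 : R.relIndex N = (R₀ : Subgroup N).index := by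
          rw [Subgroup.relIndex, hR, Subgroup.subgroupOf, Subgroup.comap_map_eq_self_of_injective]
          exact N.subtype_injective
        rw [h2] at h1
        exact R₀.not_dvd_index (hr2.trans h1)
      · obtain ⟨Sr, hSle, hSidx', -⟩ := hSr r hr hrq (hr1.trans hcarddvd2)
        have h1 : (H₁ ⊓ N).relIndex N ∣ Sr.relIndex N := Subgroup.relIndex_dvd_of_le_left N hSle
        have h2 : Sr.relIndex N ∣ Sr.index :=
          Subgroup.relIndex_dvd_index_of_le (hSle.trans inf_le_right)
        exact hSidx' (hr2.trans (h1.trans h2))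
    have hKcard : Nat.card (K.subgroupOf N) = Nat.card K :=
      Nat.card_congr (Subgroup.subgroupOfEquivOfLe hKN).toEquiv
    have hKN' : ∀ p : ℕ, p.Prime → p ∣ Nat.card (K.subgroupOf N) →
        p ∣ Nat.card (H₁.subgroupOf N) := by
      intro p hp hd
      rw [hKcard] at hd
      have hd' : p ∣ Nat.card H₁ := by rw [hH₁card]; exact hK p hp hd
      by_cases hpq : p = q
      · subst hpq
        exact hqQ.trans (hcarddvd Q (le_inf hQH₁ Subgroup.le_normalizer))
      · obtain ⟨Sr, hSle, -, hdv⟩ := hSr p hp hpq hd'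
        exact hdv.trans (hcarddvd Sr hSle)
    obtain ⟨y, hy⟩ := ih _ hcardN (H₁.subgroupOf N) (K.subgroupOf N) hHNnil hHNHall hKN' rfl
    refine ⟨(y : G), ?_⟩
    intro k hk
    have h1 : (⟨k, hKN hk⟩ : N) ∈ MulAut.conj y • H₁.subgroupOf N :=
      hy (Subgroup.mem_subgroupOf.mpr hk)
    rw [Subgroup.mem_pointwise_smul_iff_inv_smul_mem] at h1 ⊢
    have h2 := Subgroup.mem_subgroupOf.mp h1
    simpa [MulAut.smul_def] using h2

end Cfsg.Agent.Lib.Nilpotent.WielandtHall
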